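import Groth.Agent.Lib.Bivar12.Maps
import Groth.Agent.Lib.Bivar12.GysinClass
import Groth.Agent.Lib.Bivar12.PushClass
import Groth.Agent.Lib.Bivar12.Transport
import Groth.Agent.Lib.Bivar12.C1Class
import Groth.Agent.Lib.Cyc26.SplitBase

/-! # Gysin maps commute with proper pushforward -/

set_option autoImplicit false
universe u
set_option linter.style.haveILetI false
set_option backward.isDefEq.respectTransparency false
set_option backward.isDefEq.respectTransparency.types false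

open CategoryTheory CategoryTheory.Limits AlgebraicGeometry

noncomputable section

namespace Groth.Agent.Kron26

open Groth.Agent Groth.Agent.Bivar12

variable {S E T F : Scheme.{u}}

theorem IsGysinMap.iso {j : E ⟶ S} {δS : S → ℤ} {δE : E → ℤ} {N N' : S.Modules} (e : N ≅ N') {k l : ℤ}
    {φ : ChowOps.CH S δS k →+ ChowOps.CH E δE l} (h : IsGysinMap j δS δE N φ) : IsGysinMap j δS δE N' φ :=
  fun M hM => h M (hM.map fun ε => ε ≪≫ e.symm)

theorem gysin_push_comm {δS : S → ℤ} {δT : T → ℤ} (hS : Cyc.IsSetup S δS) (h : T ⟶ S) [IsProper h]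
    (hcT : Cyc.DeltaCompat h δT δS) (j : E ⟶ S) [IsClosedImmersion j] (i : F ⟶ T) [IsClosedImmersion i]
    (h' : F ⟶ E) [IsProper h'] (hpb : IsPullback i h' h j) {δE : E → ℤ} (hE : δE = fun e => δS (j e))
    {δF : F → ℤ} (hF : δF = fun e => δT (i e)) {N : S.Modules} (hN : PicF.IsInvertible N)
    {τ : N.presheaf.obj (Opposite.op ⊤)} (hτ : Cyc.IsZeroSchemeOf j N τ) {L : T.Modules}
    (eL : (Scheme.Modules.pullback h).obj N ≅ L) {k l : ℤ} (e : l = k - 1)
    {A : ChowOps.CH T δT k →+ ChowOps.CH S δS k} {B : ChowOps.CH F δF l →+ ChowOps.CH E δE l}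
    {G : ChowOps.CH T δT k →+ ChowOps.CH F δF l} {G' : ChowOps.CH S δS k →+ ChowOps.CH E δE l}
    (hA : IsPushMap h δT δS A) (hB : IsPushMap h' δF δE B) (hG : IsGysinMap i δT δF L G)
    (hG' : IsGysinMap j δS δE N G') (x : ChowOps.CH T δT k) : G' (A x) = B (G x) := by
  subst e hE hF
  haveI := hS.1
  haveI : IsLocallyNoetherian T := LocallyOfFiniteType.isLocallyNoetherian h
  have hTd : Cyc.IsDimFun T δT := UCat26.isDimFun_of_deltaCompat h hS.2.1 hS.2.2 hcT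
  have hjc := deltaCompat_surjStalks j δS
  have hEs : Cyc.IsSetup E fun e => δS (j e) := Cyc26Split.isSetup_of_lft j hS hjc
  obtain ⟨c, hc⟩ := exists_isGysinClass hS hEs j hjc N hN τ hτ
  have hFc : Cyc.DeltaCompat h' (fun e => δT (i e)) (fun e => δS (j e)) := by
    refine deltaCompat_cancel h' j hjc ?_
    rw [← hpb.w]
    exact Bivar.deltaCompat_comp i h _ _ _ (deltaCompat_surjStalks i δT) hcT
  let s : Bivar.Sq j (fun e => δS (j e)) δS :=
    ⟨S, E, 𝟙 S, j, 𝟙 E, IsPullback.of_vert_isIso ⟨by simp⟩, inferInstance, δS, fun e => δS (j e),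
      Bivar.deltaCompat_id δS, Bivar.deltaCompat_id _⟩
  let t : Bivar.Sq j (fun e => δS (j e)) δS :=
    ⟨T, F, h, i, h', hpb, inferInstance, δT, fun e => δT (i e), hcT, hFc⟩
  have hcs : c.op s k = G' := by
    refine AddMonoidHom.ext fun y => ?_
    obtain ⟨α, hα, rfl⟩ := Bivar.exists_rep y
    let ε : (Scheme.Modules.pullback (𝟙 S)).obj N ≅ N := (Scheme.Modules.pullbackId S).app N
    have hM := Groth.Agent.Twist.isInvertible_pullback (𝟙 S) hN
    have hτ' := isZeroSchemeOf_moduleIso ε.symm hτ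
    obtain ⟨w, hw⟩ := Cyc26.exists_sections hM
    obtain ⟨γ, hγm, hγ⟩ := exists_gysinCycle j hS.2.2 (δD := fun e => δS (j e)) rfl hM (ε.symm.hom.app ⊤ τ) hw
      (l := k - 1) rfl hα
    rw [hG' _ ⟨ε⟩ _ hτ' α hα w hw γ hγ hγm]
    exact hc.2.2.2 s _ hτ' k α hα w hw γ hγ hγm
  have hct : c.op t k = G := by
    refine AddMonoidHom.ext fun y => ?_
    obtain ⟨α, hα, rfl⟩ := Bivar.exists_rep y
    have hM := Groth.Agent.Twist.isInvertible_pullback h hN
    have hτ' := isZeroSchemeOf_pullback h hpb hN hτ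
    obtain ⟨w, hw⟩ := Cyc26.exists_sections hM
    obtain ⟨γ, hγm, hγ⟩ := exists_gysinCycle i hTd (δD := fun e => δT (i e)) rfl hM _ hw (l := k - 1) rfl hα
    rw [hG _ ⟨eL⟩ _ hτ' α hα w hw γ hγ hγm]
    exact hc.2.2.2 t _ hτ' k α hα w hw γ hγ hγm
  rw [← hcs, ← hct]
  exact eq_of_pushOK hA hB (c.push s t h h' (Category.comp_id h) hpb.w.symm (Category.comp_id h') k) x

theorem gysinOK₁_of_eq [IsLocallyNoetherian S] {i : E ⟶ S} [IsClosedImmersion i] {δS : S → ℤ} {δE : E → ℤ}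
    (hd : Cyc.IsDimFun S δS) (hδE : δE = fun e => δS (i e)) {L : S.Modules} (hL : PicF.IsInvertible L)
    {σ : L.presheaf.obj (Opposite.op ⊤)} (hσ : Cyc.IsZeroSchemeOf i L σ) {k l k₁ l₁ : ℤ} (hl : l₁ = l - 1)
    {φ : ChowOps.CH S δS k →+ ChowOps.CH S δS l} {ψ : ChowOps.CH E δE k₁ →+ ChowOps.CH E δE l₁}
    {G : ChowOps.CH S δS k →+ ChowOps.CH E δE k₁} {G' : ChowOps.CH S δS l →+ ChowOps.CH E δE l₁}
    (hG : IsGysinMap i δS δE L G) (hG' : IsGysinMap i δS δE L G') (heq : ∀ x, ψ (G x) = G' (φ x)) :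
    Bivar.GysinOK₁ δS δE i L σ φ ψ := by
  intro α hα
  obtain ⟨β, hβ, e⟩ := Bivar.exists_rep (φ (ChowOps.cl α hα))
  refine ⟨β, hβ, e.symm, fun w hw γ hγ hγm => ?_⟩
  obtain ⟨ζ, hζm, hζ⟩ := exists_gysinCycle i hd hδE hL σ hw hl hβ
  exact ⟨ζ, hζm, hζ, by
    rw [← hG L ⟨Iso.refl L⟩ σ hσ α hα w hw γ hγ hγm, heq, ← e, hG' L ⟨Iso.refl L⟩ σ hσ β hβ w hw ζ hζ hζm]⟩

end Groth.Agent.Kron26
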