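import Groth.Agent.Lib.Kron26.Main

/-! # Kronecker duality under the Künneth hypothesis -/

set_option autoImplicit false
universe u
set_option linter.style.haveILetI false
set_option backward.isDefEq.respectTransparency false
set_option backward.isDefEq.respectTransparency.types false

open CategoryTheory CategoryTheory.Limits AlgebraicGeometry

noncomputable section

namespace Groth.Agent.Kron26

open Groth.Agent Groth.Agent.Bivar12
open scoped Classical

variable {k : Type u} [Field k] {X : Scheme.{u}} {pX : X ⟶ Spec (.of k)} [IsProper pX] {δX : X → ℤ}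
  (hX : Cyc.IsSetup X δX) (hδX : Cyc.DeltaCompat pX δX (fun _ => 0)) (hK : Kun pX δX)

include hδX in
theorem snd_compat (s : Bivar.Sq pX δX (fun _ => 0)) : Cyc.DeltaCompat s.f' s.δX' s.δY' :=
  deltaCompat_cancel s.f' s.g s.compatY (compat_fst hδX s)

include hX hδX hK in
/-- A class is determined by its Kronecker functional. -/
theorem eq_of_kronecker {p : ℤ} (c c' : Bivar.OpCl p X δX) (φ : ChowOps.CH X δX p →+ ℤ)
    (h : ∀ (α : AlgebraicCycle X ℤ) (hα : α ∈ Cyc.Zk X δX p) (β : AlgebraicCycle X ℤ)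
      (hβ : β ∈ Cyc.Zk X δX (p - p)), c.cap p (ChowOps.cl α hα) = ChowOps.cl β hβ →
        φ (ChowOps.cl α hα) = ChowOps.deg pX δX β)
    (h' : ∀ (α : AlgebraicCycle X ℤ) (hα : α ∈ Cyc.Zk X δX p) (β : AlgebraicCycle X ℤ)
      (hβ : β ∈ Cyc.Zk X δX (p - p)), c'.cap p (ChowOps.cl α hα) = ChowOps.cl β hβ →
        φ (ChowOps.cl α hα) = ChowOps.deg pX δX β) : c = c' := by
  have hscal : ∀ (d : Bivar.OpCl p X δX), (∀ (α : AlgebraicCycle X ℤ) (hα : α ∈ Cyc.Zk X δX p)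
      (β : AlgebraicCycle X ℤ) (hβ : β ∈ Cyc.Zk X δX (p - p)), d.cap p (ChowOps.cl α hα) = ChowOps.cl β hβ →
        φ (ChowOps.cl α hα) = ChowOps.deg pX δX β) → ∀ (x : X) (β : AlgebraicCycle X ℤ)
      (hβ : β ∈ Cyc.Zk X δX (δX x - p)), d.cap (δX x) (ChowOps.cl (pt x) (pt_mem x)) = ChowOps.cl β hβ →
        ChowOps.deg pX δX β = if e : δX x = p then φ (ChowOps.cl (pt x) (pt_mem' x e)) else 0 := by
    intro d hd x β hβ hc
    split_ifs with e
    · subst e
      exact (hd _ _ β hβ hc).symm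
    · exact Bivar.cycMap_mem_Zk pX δX (fun _ => (0 : ℤ)) _ hβ _ (fun h => e (by simp only at h; omega))
  refine Bivar.OpCl.ext (funext fun s₀ => funext fun m => AddMonoidHom.ext fun y => ?_)
  obtain ⟨α, hα, rfl⟩ := Bivar.exists_rep y
  let s := sqOf hδX s₀
  haveI : IsProper s.f' := proper_snd (pX := pX) s
  have hYs := setupY hX s
  have hPs := setupP hX s
  haveI : IsLocallyNoetherian s.Y' := hYs.1
  haveI : IsLocallyNoetherian s.X' := hPs.1
  obtain ⟨B, hB⟩ := exists_isPushMap s.f' hPs.2.2 hYs.2.2 (snd_compat hδX s) (m - p)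
  have e1 := op_graph hX hδX c s s₀.g s₀.lft s₀.compat (graph hδX s₀) (graph_fst hδX s₀) (graph_snd hδX s₀) m α hα hB
  have e2 := op_graph hX hδX c' s s₀.g s₀.lft s₀.compat (graph hδX s₀) (graph_fst hδX s₀) (graph_snd hδX s₀) m α hα hB
  refine e1.trans (Eq.trans ?_ e2.symm)
  refine DFunLike.congr_fun ((exists_contract hX hδX hK p φ s m).1 _ inferInstance
    (B.comp (c.op (prodO s) m)) (B.comp (c'.op (prodO s) m)) fun x v => ?_) _
  obtain ⟨β, hβ, hc⟩ := Bivar.exists_rep (c.cap (δX x) (ChowOps.cl (pt x) (pt_mem x)))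
  obtain ⟨β', hβ', hc'⟩ := Bivar.exists_rep (c'.cap (δX x) (ChowOps.cl (pt x) (pt_mem x)))
  refine (op_T hX hδX c x β hβ hc.symm s _ m _ hB v).trans ?_
  refine Eq.trans ?_ (op_T hX hδX c' x β' hβ' hc'.symm s _ m _ hB v).symm
  rw [hscal c h x β hβ hc.symm, hscal c' h' x β' hβ' hc'.symm]

include hX hδX in
/-- `q₁_*([x] × v) = deg(v) [x]`. -/
theorem push_fst_T (x : X) {p : ℤ} (v : AlgebraicCycle (sqOf hδX (Bivar.OSq.self X δX)).Y' ℤ)
    (hv : v ∈ Cyc.Zk (sqOf hδX (Bivar.OSq.self X δX)).Y' (sqOf hδX (Bivar.OSq.self X δX)).δY' (p - δX x))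
    {Q1 : ChowOps.CH (sqOf hδX (Bivar.OSq.self X δX)).X' (sqOf hδX (Bivar.OSq.self X δX)).δX' p →+ ChowOps.CH X δX p}
    [IsProper (sqOf hδX (Bivar.OSq.self X δX)).g']
    (hQ : IsPushMap (sqOf hδX (Bivar.OSq.self X δX)).g' (sqOf hδX (Bivar.OSq.self X δX)).δX' δX Q1) :
    Q1 (T pX δX hX hδX x (sqOf hδX (Bivar.OSq.self X δX)) (p - δX x) p (sub_add_cancel p (δX x)).symm
      (ChowOps.cl v hv)) = scal X δX (ChowOps.deg pX δX v) (δX x) p (ChowOps.cl (pt x) (pt_mem x)) := by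
  let s0 := sqOf hδX (Bivar.OSq.self X δX)
  have hsw : IsPullback s0.g' s0.f' pX pX := by
    have := s0.isPullback.flip
    simpa [s0] using this
  let σ : Bivar.Sq pX δX (fun _ => 0) :=
    ⟨X, s0.X', pX, s0.g', s0.f', hsw, inferInstance, δX, s0.δX', hδX, snd_compat hδX s0⟩
  obtain ⟨ζ, hζ, h1, h2⟩ := (T_spec pX δX hX hδX x).1 s0 _ p (sub_add_cancel p (δX x)).symm v hv
  refine (congrArg Q1 h2).trans ?_
  haveI : IsProper σ.f' := (inferInstance : IsProper s0.g')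
  haveI : IsLocallyNoetherian σ.Y' := hX.1
  haveI : IsLocallyNoetherian σ.X' := (setupP hX s0).1
  obtain ⟨Bq, hBq⟩ := exists_isPushMap σ.f' (setupP hX σ).2.2 hX.2.2 (snd_compat hδX σ) (p - 0)
  have hv0 : v ∈ Cyc.Zk X δX (p - δX x - 0) := by rw [sub_zero]; exact hv
  have hpt : pt x ∈ Cyc.Zk X δX (p - (p - δX x)) := pt_mem' x (sub_sub_cancel p (δX x)).symm
  have key := op_ext_prod hX hδX (Bivar.OpCl.one X δX) σ (a := p - δX x) (m := p) v hv v hv0
    (by show Bivar.chCast X δX (sub_zero _).symm (ChowOps.cl v hv) = _; rw [Bivar.chCast_cl]) (pt x) hpt ζ hζ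
    (fun t => by
      rw [congrFun h1 t]
      exact congrFun (IntMult26.ext_symm (p := s0.g') (q := s0.f') δX δX s0.δX' (Set.indicator {x} 1) ⇑v) t) hBq
  have e1 : Bq ((Bivar.OpCl.one X δX).op (prodO σ) p (ChowOps.cl ζ hζ)) =
      Bivar.chCast X δX (sub_zero p).symm (Q1 (ChowOps.cl ζ hζ)) :=
    (chCast_push (sub_zero p).symm hQ hBq _).symm
  have e2 : ∀ {m m' l l' : ℤ} (em : m = m') (el : l = l') (d : ℤ) (hm : pt x ∈ Cyc.Zk X δX m)
      (hm' : pt x ∈ Cyc.Zk X δX m') (y : ChowOps.CH X δX l), Bivar.chCast X δX el y =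
        scal X δX d m' l' (ChowOps.cl (pt x) hm') → y = scal X δX d m l (ChowOps.cl (pt x) hm) := by
    rintro m m' l l' rfl rfl d hm hm' y hy
    exact hy
  exact e2 (sub_sub_cancel p (δX x)).symm (sub_zero p).symm _ _ hpt _ (e1.symm.trans key)

include hX hδX hK in
theorem existsUnique_kronecker (p : ℤ) (φ : ChowOps.CH X δX p →+ ℤ) :
    ∃! c : Bivar.OpCl p X δX, ∀ (α : AlgebraicCycle X ℤ) (hα : α ∈ Cyc.Zk X δX p)
      (β : AlgebraicCycle X ℤ) (hβ : β ∈ Cyc.Zk X δX (p - p)),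
      c.cap p (ChowOps.cl α hα) = ChowOps.cl β hβ → φ (ChowOps.cl α hα) = ChowOps.deg pX δX β := by
  obtain ⟨c, Ψ, hΨ, hop⟩ := exists_op hX hδX hK p φ
  suffices hc : ∀ (α : AlgebraicCycle X ℤ) (hα : α ∈ Cyc.Zk X δX p)
      (β : AlgebraicCycle X ℤ) (hβ : β ∈ Cyc.Zk X δX (p - p)),
      c.cap p (ChowOps.cl α hα) = ChowOps.cl β hβ → φ (ChowOps.cl α hα) = ChowOps.deg pX δX β from
    ⟨c, hc, fun c' hc' => eq_of_kronecker hX hδX hK c' c φ hc' hc⟩
  intro α hα β hβ hcap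
  let o := Bivar.OSq.self X δX
  let s0 := sqOf hδX o
  haveI : IsProper s0.g' := by
    haveI : IsProper s0.g := by
      show IsProper (𝟙 X ≫ pX)
      infer_instance
    exact MorphismProperty.of_isPullback (P := @IsProper) s0.isPullback inferInstance
  haveI := hX.1
  haveI : IsLocallyNoetherian s0.X' := (setupP hX s0).1
  obtain ⟨Q1, hQ⟩ := exists_isPushMap s0.g' (setupP hX s0).2.2 hX.2.2 s0.compatX p
  obtain ⟨D, hD⟩ := exists_degHom hX hδX (p - p)
  have hhom : D.comp (Ψ o p) = φ.comp Q1 := by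
    let L : ℤ →+ ULift.{u} ℤ := AddMonoidHom.mk' ULift.up fun _ _ => rfl
    have h2 := (exists_contract hX hδX hK p φ s0 p).1 (ULift.{u} ℤ) inferInstance
      (L.comp (D.comp (Ψ o p))) (L.comp (φ.comp Q1)) fun x v => ?_
    · exact AddMonoidHom.ext fun y => congrArg ULift.down (DFunLike.congr_fun h2 y)
    refine congrArg L ?_
    obtain ⟨b, hb, rfl⟩ := Bivar.exists_rep v
    refine Eq.trans ?_ (congrArg φ (push_fst_T hX hδX x b hb hQ)).symm
    by_cases e : δX x = p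
    · refine (congrArg D ((hΨ o p x _).2 e)).trans ?_
      rw [scal_eq _ _ _ e, map_zsmul, map_zsmul, Bivar.chCast_cl, smul_eq_mul, smul_eq_mul]
      refine (mul_comm _ _).trans (congrArg₂ (· * ·) ?_ (by rw [Bivar.chCast_cl]))
      exact hD b (e ▸ hb)
    · refine (congrArg D ((hΨ o p x _).1 e)).trans ?_
      rw [scal_ne _ _ _ e, map_zero, map_zero]
  have e1 : ChowOps.deg pX δX β = D (Ψ o p (ChowOps.cl (AlgebraicCycle.map (graph hδX o) o.δ s0.δX' α)
      (Bivar.cycMap_mem_Zk _ _ _ _ hα))) :=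
    (hD β hβ).symm.trans (congrArg D (hcap.symm.trans (hop o p α hα)))
  rw [e1]
  refine Eq.trans ?_ (DFunLike.congr_fun hhom _).symm
  show φ _ = φ _
  refine congrArg φ (Eq.trans ?_ (hQ _ _).symm)
  refine Bivar.cl_congr ?_ _ _
  rw [← map_comp (graph hδX o) s0.g' (graph_compat hδX o) s0.compatX]
  have hcongr : ∀ (g g' : X ⟶ X) [QuasiCompact g] [QuasiCompact g'], g = g' →
      AlgebraicCycle.map g δX δX α = AlgebraicCycle.map g' δX δX α := by
    rintro g g' _ _ rfl; rfl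
  exact ((hcongr _ (𝟙 X) (graph_fst hδX o)).trans (map_id δX α)).symm

end Groth.Agent.Kron26
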