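import Groth.Agent.Lib.Kron26.Op
import Groth.Agent.Lib.Bivar12.BiratCrit

/-! # A class acts on a strand through its degree -/

set_option autoImplicit false
universe u
set_option linter.style.haveILetI false
set_option backward.isDefEq.respectTransparency false
set_option backward.isDefEq.respectTransparency.types false
set_option maxHeartbeats 400000

open CategoryTheory CategoryTheory.Limits AlgebraicGeometry

noncomputable section

namespace Groth.Agent.Kron26

open Groth.Agent Groth.Agent.Bivar12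
open scoped Classical

theorem length_field {R : Type u} [CommRing R] (h : IsField R) : Module.length R (R ⧸ (⊥ : Ideal R)) = 1 := by
  letI := h.toField
  haveI : IsSimpleModule R R := inferInstance
  rw [LinearEquiv.length_eq (Submodule.quotEquivOfEqBot (⊥ : Submodule R R) rfl)]
  exact Module.length_eq_one R R

/-- Multiplication by `d`, from weight `m` to weight `l` when they agree. -/
def scal (Y : Scheme.{u}) (δ : Y → ℤ) (d m l : ℤ) : ChowOps.CH Y δ m →+ ChowOps.CH Y δ l :=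
  if e : m = l then (zsmulAddGroupHom d).comp (Bivar.chCast Y δ e).toAddMonoidHom else 0

theorem scal_self (Y : Scheme.{u}) (δ : Y → ℤ) (d m : ℤ) (v : ChowOps.CH Y δ m) : scal Y δ d m m v = d • v := by
  rw [scal, dif_pos rfl]; rfl

theorem scal_eq (Y : Scheme.{u}) (δ : Y → ℤ) (d : ℤ) {m l : ℤ} (e : m = l) (v : ChowOps.CH Y δ m) :
    scal Y δ d m l v = d • Bivar.chCast Y δ e v := by
  subst e; exact scal_self ..

theorem scal_ne (Y : Scheme.{u}) (δ : Y → ℤ) (d : ℤ) {m l : ℤ} (e : m ≠ l) (v : ChowOps.CH Y δ m) :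
    scal Y δ d m l v = 0 := by
  rw [scal, dif_neg e]; rfl

variable {k : Type u} [Field k] {X : Scheme.{u}} {pX : X ⟶ Spec (.of k)} [IsProper pX] {δX : X → ℤ}
  {V : Scheme.{u}} [IsIntegral V] {i : V ⟶ X} [IsClosedImmersion i] {δV : V → ℤ}
  (hX : Cyc.IsSetup X δX) (hiV : Cyc.DeltaCompat i δV δX) (hVk : Cyc.DeltaCompat (i ≫ pX) δV (fun _ => 0))
  {n : ℕ} (hrel : Cyc.HasRelDim (i ≫ pX) n)

/-- The strand as a test scheme over `X`. -/
abbrev oq (hiV : Cyc.DeltaCompat i δV δX) (s : Bivar.Sq (i ≫ pX) δV (fun _ => 0)) : Bivar.OSq X δX :=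
  ⟨s.X', s.g' ≫ i, by
    haveI : LocallyOfFiniteType s.g' := MorphismProperty.of_isPullback (P := @LocallyOfFiniteType) s.isPullback s.lft
    infer_instance, s.δX', Bivar.deltaCompat_comp s.g' i _ _ _ s.compatX hiV⟩

instance proper_strand (s : Bivar.Sq (i ≫ pX) δV (fun _ => 0)) : IsProper s.f' :=
  MorphismProperty.of_isPullback (P := @IsProper) s.isPullback.flip inferInstance

/-- `c` contracts the strand over `v` with factor `d`. -/
def Holds (hiV : Cyc.DeltaCompat i δV δX) (n : ℕ) {p : ℤ} (c : Bivar.OpCl p X δX) (d : ℤ)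
    (s : Bivar.Sq (i ≫ pX) δV (fun _ => 0)) (m l : ℤ) (v : ChowOps.CH s.Y' s.δY' m) : Prop :=
  ∀ (A : ChowOps.CH s.Y' s.δY' m →+ ChowOps.CH s.X' s.δX' l)
    (B : ChowOps.CH s.X' s.δX' (l - p) →+ ChowOps.CH s.Y' s.δY' (l - p)),
    IsPullMap s.f' s.δX' s.δY' n A → IsPushMap s.f' s.δX' s.δY' B →
      B (c.op (oq hiV s) l (A v)) = scal s.Y' s.δY' d m (l - p) v

variable {p : ℤ} {c : Bivar.OpCl p X δX} {d : ℤ}

include hiV in
theorem Holds.sub {s : Bivar.Sq (i ≫ pX) δV (fun _ => 0)} {m l : ℤ}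
    {v w : ChowOps.CH s.Y' s.δY' m} (hv : Holds hiV n c d s m l v) (hw : Holds hiV n c d s m l w) :
    Holds hiV n c d s m l (v - w) := fun A B hA hB => by
  rw [map_sub, map_sub, map_sub, hv A B hA hB, hw A B hA hB, map_sub]

include hX hiV hVk hrel in
theorem facts (s : Bivar.Sq (i ≫ pX) δV (fun _ => 0)) : FlatFacts n s := by
  haveI : Flat (i ≫ pX) := GrpdDim19.flat_to_field _
  exact flatFacts (Cyc26Split.isSetup_of_lft i hX hiV) IntMult26.isSetup_field hrel hVk s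

include hX hiV hVk hrel in
theorem Holds.push {s t : Bivar.Sq (i ≫ pX) δV (fun _ => 0)} (h : t.Y' ⟶ s.Y') [IsProper h] (w : h ≫ s.g = t.g)
    {m l : ℤ} (e : l = m + n) {H : ChowOps.CH t.Y' t.δY' m →+ ChowOps.CH s.Y' s.δY' m}
    (hH : IsPushMap h t.δY' s.δY' H) {v : ChowOps.CH t.Y' t.δY' m} (hv : Holds hiV n c d t m l v) :
    Holds hiV n c d s m l (H v) := by
  intro A B hA hB
  have Fs := facts hX hiV hVk hrel s
  have Ft := facts hX hiV hVk hrel t
  haveI := Fs.noethX; haveI := Fs.noethY; haveI := Ft.noethX; haveI := Ft.noethY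
  haveI := Fs.flat; haveI := Ft.flat
  haveI := Fs.lftf
  let h' : t.X' ⟶ s.X' := s.isPullback.lift (t.f' ≫ h) t.g' (by rw [Category.assoc, w, t.isPullback.w])
  have w₂ : h' ≫ s.f' = t.f' ≫ h := s.isPullback.lift_fst _ _ _
  have w₃ : h' ≫ s.g' = t.g' := s.isPullback.lift_snd _ _ _
  have hsq := isPullback_of_over h h' w w₂ w₃
  haveI : IsProper h' := MorphismProperty.of_isPullback (P := @IsProper) hsq inferInstance
  have hc := (deltaCompat_of_over h w).2
  have hc' := (deltaCompat_of_over' h' w₃).2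
  have hsh : ∀ u : t.X', (∀ z, t.f' z = t.f' u → z ⤳ u → z = u) → t.δX' u = t.δY' (t.f' u) + (n : ℤ) := fun u hu => by
    haveI := Ft.lftf
    exact Cyc26.shift_of_hasRelDim t.f' Ft.rel Ft.comp u hu
  have hsh' : ∀ u : s.X', (∀ z, s.f' z = s.f' u → z ⤳ u → z = u) → s.δX' u = s.δY' (s.f' u) + (n : ℤ) := fun u hu =>
    Cyc26.shift_of_hasRelDim s.f' Fs.rel Fs.comp u hu
  obtain ⟨A', hA'⟩ := exists_isPullMap t.f' Ft.dimX Ft.dimY hsh (k := m) (l := l) e
  obtain ⟨B', hB'⟩ := exists_isPushMap t.f' Ft.dimX Ft.dimY Ft.comp (l - p)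
  obtain ⟨H', hH'⟩ := exists_isPushMap h' Ft.dimX Fs.dimX hc' l
  obtain ⟨H₁, hH₁⟩ := exists_isPushMap h' Ft.dimX Fs.dimX hc' (l - p)
  obtain ⟨H₂, hH₂⟩ := exists_isPushMap h Ft.dimY Fs.dimY hc (l - p)
  have e1 : A (H v) = H' (A' v) := by
    subst e
    obtain ⟨α, hα, rfl⟩ := Bivar.exists_rep v
    obtain ⟨α', hα'⟩ := Cyc26.exists_cycle_pullFun t.f' Ft.dimX hsh α
    have hm := Cyc26.pullFun_mem_Zk t.f' hα hα'
    rw [hH α hα, hA' α hα α' hα' hm, hH' α' hm]
    refine hA _ _ _ ?_ _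
    exact (pullFun_map_of_isPullback hsq Fs.dimX hc hc' hsh' α hα α' hα').symm
  have e2 := eq_of_pushOK hH' hH₁ (c.push (oq hiV s) (oq hiV t) h' (by
    show h' ≫ s.g' ≫ i = t.g' ≫ i
    rw [reassoc_of% w₃]) l) (A' v)
  have e3 : ∀ y, B (H₁ y) = H₂ (B' y) := fun y => by
    obtain ⟨α, hα, rfl⟩ := Bivar.exists_rep y
    rw [hH₁ α hα, hB' α hα, hH₂, hB]
    refine Bivar.cl_congr ?_ _ _
    rw [← map_comp h' s.f' hc' Fs.comp, ← map_comp t.f' h Ft.comp hc]
    simp only [w₂]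
  refine (congrArg (fun z => B (c.op (oq hiV s) l z)) e1).trans ?_
  refine ((congrArg B e2).trans (e3 _)).trans ?_
  refine (congrArg H₂ (hv A' B' hA' hB')).trans ?_
  by_cases em : m = l - p
  · refine (congrArg H₂ (scal_eq t.Y' t.δY' d em v)).trans ?_
    refine (map_zsmul H₂ d _).trans ?_
    refine Eq.trans ?_ (scal_eq s.Y' s.δY' d em (H v)).symm
    exact congrArg (fun z => d • z) (chCast_push em hH hH₂ v).symm
  · refine (congrArg H₂ (scal_ne t.Y' t.δY' d em v)).trans ?_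
    exact (map_zero H₂).trans (scal_ne s.Y' s.δY' d em (H v)).symm

include hX hiV hVk hrel in
theorem Holds.pull {s t : Bivar.Sq (i ≫ pX) δV (fun _ => 0)} (h : t.Y' ⟶ s.Y') [Flat h] (w : h ≫ s.g = t.g)
    {r : ℕ} (hr : Cyc.HasRelDim h r)
    {m l : ℤ} (e : l = m + n) {U : ChowOps.CH s.Y' s.δY' m →+ ChowOps.CH t.Y' t.δY' (m + r)}
    (hU : IsPullMap h t.δY' s.δY' r U) {v : ChowOps.CH s.Y' s.δY' m} (hv : Holds hiV n c d s m l v) :
    Holds hiV n c d t (m + r) (l + r) (U v) := by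
  intro A B hA hB
  have Fs := facts hX hiV hVk hrel s
  have Ft := facts hX hiV hVk hrel t
  haveI := Fs.noethX; haveI := Fs.noethY; haveI := Ft.noethX; haveI := Ft.noethY
  haveI := Fs.flat; haveI := Ft.flat
  haveI := Fs.lftf; haveI := Ft.lftf
  let h' : t.X' ⟶ s.X' := s.isPullback.lift (t.f' ≫ h) t.g' (by rw [Category.assoc, w, t.isPullback.w])
  have w₂ : h' ≫ s.f' = t.f' ≫ h := s.isPullback.lift_fst _ _ _
  have w₃ : h' ≫ s.g' = t.g' := s.isPullback.lift_snd _ _ _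
  have hsq := isPullback_of_over h h' w w₂ w₃
  haveI := (deltaCompat_of_over h w).1
  haveI : Flat h' := MorphismProperty.of_isPullback (P := @Flat) hsq inferInstance
  haveI : LocallyOfFiniteType h' := (deltaCompat_of_over' h' w₃).1
  have hr' : Cyc.HasRelDim h' r := FibDim14.hasRelDim_baseChange hsq hr
  have hc := (deltaCompat_of_over h w).2
  have hc' := (deltaCompat_of_over' h' w₃).2
  have hshh := Cyc26.shift_of_hasRelDim h hr hc
  have hshh' := Cyc26.shift_of_hasRelDim h' hr' hc'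
  have hsh := Cyc26.shift_of_hasRelDim s.f' Fs.rel Fs.comp
  have hsh' := Cyc26.shift_of_hasRelDim t.f' Ft.rel Ft.comp
  obtain ⟨A', hA'⟩ := exists_isPullMap s.f' Fs.dimX Fs.dimY hsh (k := m) (l := l) e
  obtain ⟨B', hB'⟩ := exists_isPushMap s.f' Fs.dimX Fs.dimY Fs.comp (l - p)
  obtain ⟨U', hU'⟩ := exists_isPullMap h' Ft.dimX Fs.dimX hshh' (k := l) (l := l + r) rfl
  obtain ⟨U₁, hU₁⟩ := exists_isPullMap h' Ft.dimX Fs.dimX hshh' (k := l - p) (l := l + r - p) (by ring)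
  obtain ⟨U₂, hU₂⟩ := exists_isPullMap h Ft.dimY Fs.dimY hshh (k := l - p) (l := l + r - p) (by ring)
  have e1 : A (U v) = U' (A' v) := by
    subst e
    obtain ⟨α, hα, rfl⟩ := Bivar.exists_rep v
    obtain ⟨α₁, hα₁⟩ := Cyc26.exists_cycle_pullFun h Ft.dimY hshh α
    have hm₁ := Cyc26.pullFun_mem_Zk h hα hα₁
    obtain ⟨α₂, hα₂⟩ := Cyc26.exists_cycle_pullFun s.f' Fs.dimX hsh α
    have hm₂ := Cyc26.pullFun_mem_Zk s.f' hα hα₂
    obtain ⟨α₃, hα₃⟩ := Cyc26.exists_cycle_pullFun t.f' Ft.dimX hsh' α₁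
    have hm₃ : α₃ ∈ Cyc.Zk t.X' t.δX' (m + n + r) := by
      have := Cyc26.pullFun_mem_Zk t.f' hm₁ hα₃
      rwa [show m + (r : ℤ) + n = m + n + r by ring] at this
    rw [hU α hα α₁ hα₁ hm₁, hA' α hα α₂ hα₂ hm₂, hA _ hm₁ α₃ hα₃ hm₃]
    refine (hU' _ hm₂ α₃ ?_ hm₃).symm
    rw [hα₃, hα₂, hα₁, Cyc26.pullFun_comp t.f' h Ft.rel hr Ft.comp hc,
      Cyc26.pullFun_comp h' s.f' hr' Fs.rel hc' Fs.comp, add_comm (n : ℤ) (r : ℤ)]
    simp only [w₂]
  have e2 := eq_of_pullOK Ft.dimX hshh' rfl hU' hU₁ (c.pull (oq hiV s) (oq hiV t) h' r hr' (by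
    show h' ≫ s.g' ≫ i = t.g' ≫ i
    rw [reassoc_of% w₃]) l) (A' v)
  have e3 : ∀ y, B (U₁ y) = U₂ (B' y) := by
    have gen : ∀ (L : ℤ), L = l - p + r → ∀ (B : ChowOps.CH t.X' t.δX' L →+ ChowOps.CH t.Y' t.δY' L)
        (U₁ : ChowOps.CH s.X' s.δX' (l - p) →+ ChowOps.CH t.X' t.δX' L)
        (U₂ : ChowOps.CH s.Y' s.δY' (l - p) →+ ChowOps.CH t.Y' t.δY' L),
        IsPushMap t.f' t.δX' t.δY' B → IsPullMap h' t.δX' s.δX' r U₁ → IsPullMap h t.δY' s.δY' r U₂ →
        ∀ y, B (U₁ y) = U₂ (B' y) := by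
      rintro L rfl B U₁ U₂ hB hU₁ hU₂ y
      obtain ⟨α, hα, rfl⟩ := Bivar.exists_rep y
      obtain ⟨α', hα'⟩ := Cyc26.exists_cycle_pullFun h' Ft.dimX hshh' α
      have hm := Cyc26.pullFun_mem_Zk h' hα hα'
      rw [hU₁ α hα α' hα' hm, hB α' hm, hB' α hα]
      refine (hU₂ _ _ _ ?_ _).symm
      exact (pullFun_map_of_isPullback hsq.flip Ft.dimY Fs.comp Ft.comp hshh α hα α' hα').symm
    exact gen _ (by ring) B U₁ U₂ hB hU₁ hU₂
  refine (congrArg (fun z => B (c.op (oq hiV t) (l + r) z)) e1).trans ?_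
  refine ((congrArg B e2).trans (e3 _)).trans ?_
  refine (congrArg U₂ (hv A' B' hA' hB')).trans ?_
  by_cases em : m = l - p
  · have em' : m + r = l + r - p := by rw [em]; ring
    refine (congrArg U₂ (scal_eq s.Y' s.δY' d em v)).trans ?_
    refine (map_zsmul U₂ d _).trans ?_
    refine Eq.trans ?_ (scal_eq t.Y' t.δY' d em' (U v)).symm
    exact congrArg (fun z => d • z) (chCast_comp_pull em em' Ft.noethY Ft.dimY hshh rfl hU hU₂ v).symm
  · refine (congrArg U₂ (scal_ne s.Y' s.δY' d em v)).trans ?_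
    exact (map_zero U₂).trans (scal_ne t.Y' t.δY' d (fun h0 => em (by omega)) (U v)).symm

/-- The cycle of the point of the base. -/
abbrev unitCyc (k : Type u) [Field k] : AlgebraicCycle (Spec (CommRingCat.of k)) ℤ :=
  pt (IsLocalRing.closedPoint k)

/-- The class of the point of the base. -/
abbrev unitCl (k : Type u) [Field k] : ChowOps.CH (Spec (CommRingCat.of k)) (fun _ => (0 : ℤ)) 0 :=
  ChowOps.cl (unitCyc k) (fun _ h => absurd rfl h)

/-- The strand over the base point. -/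
abbrev baseSq (hVk : Cyc.DeltaCompat (i ≫ pX) δV (fun _ => 0)) : Bivar.Sq (i ≫ pX) δV (fun _ => 0) :=
  ⟨Spec (.of k), V, 𝟙 _, i ≫ pX, 𝟙 V, IsPullback.of_vert_isIso ⟨by simp⟩, inferInstance, fun _ => 0, δV,
    Bivar.deltaCompat_id _, Bivar.deltaCompat_id _⟩

include hX hiV hVk hrel in
theorem holds_base {x : X} (hx : i (genericPoint V) = x) (hn : δX x = n) (hδX : Cyc.DeltaCompat pX δX (fun _ => 0))
    (β : AlgebraicCycle X ℤ) (hβ : β ∈ Cyc.Zk X δX ((n : ℤ) - p))
    (hc : c.cap n (ChowOps.cl (pt x) (pt_mem' x hn)) = ChowOps.cl β hβ) :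
    Holds hiV n c (ChowOps.deg pX δX β) (baseSq hVk) 0 n
      (unitCl k) := by
  intro A B hA hB
  have hVs := Cyc26Split.isSetup_of_lft i hX hiV
  haveI := hX.1; haveI := hVs.1
  haveI hk : Cyc.IsSetup (Spec (CommRingCat.of k)) (fun _ => (0 : ℤ)) := IntMult26.isSetup_field
  haveI : IsLocallyNoetherian (Spec (CommRingCat.of k)) := hk.1
  have hδi := delta_eq_comp hiV
  have hgn : δV (genericPoint V) = n := by
    have h0 := congrFun hδi (genericPoint V)
    exact h0.trans (by show δX (i (genericPoint V)) = _; rw [hx, hn])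
  have hη : ⇑(pt (genericPoint V)) = Cyc.pullFun (i ≫ pX) δV (fun _ => 0) n ⇑(unitCyc k) := by
    funext z
    simp only [Cyc.pullFun, zero_add]
    by_cases hz : z = genericPoint V
    · subst hz
      rw [coe_pt, Set.indicator_of_mem (Set.mem_singleton _), if_pos hgn, coe_pt,
        Set.indicator_of_mem (Set.mem_singleton_iff.2 (Subsingleton.elim _ _)), Pi.one_apply, Pi.one_apply, one_mul]
      have hf : IsField ((Spec (CommRingCat.of k)).presheaf.stalk ((i ≫ pX) (genericPoint V))) := by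
        haveI : IsIntegral (Spec (CommRingCat.of k)) := inferInstance
        have e : genericPoint (Spec (CommRingCat.of k)) = (i ≫ pX) (genericPoint V) := Subsingleton.elim _ _
        exact e ▸ Field.toIsField (Spec (CommRingCat.of k)).functionField
      rw [IsLocalRing.isField_iff_maximalIdeal_eq.1 hf, Ideal.map_bot,
        length_field (Field.toIsField V.functionField)]
      rfl
    · rw [coe_pt, Set.indicator_of_notMem (show z ∉ ({genericPoint V} : Set V) from hz), if_neg]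
      intro hzn
      have := (hVs.2.2 (genericPoint V) z (genericPoint_specializes z) (Ne.symm hz)).1
      omega
  have hmap : AlgebraicCycle.map i δV δX (pt (genericPoint V)) = pt x := by
    ext y
    by_cases hy : y = x
    · subst hy
      rw [Cyc26.map_apply_eq_sum i δV δX _ _ {genericPoint V} (fun w hw => by rw [Finset.mem_singleton.1 hw, hx])
        (fun w hw _ _ => Finset.mem_singleton.2 (i.isClosedEmbedding.injective (hw.trans hx.symm))), Finset.sum_singleton,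
        coe_pt, coe_pt, Set.indicator_of_mem (Set.mem_singleton _), Set.indicator_of_mem (Set.mem_singleton _)]
      rw [AlgebraicCycle.mapCoeff, if_pos (by rw [hgn, hx, hn]), residueDegree_eq_one_of_surjectiveOnStalks',
        Pi.one_apply, Nat.cast_one, mul_one]
      rfl
    · rw [Cyc26.map_apply_eq_sum i δV δX _ y ∅ (fun w hw => absurd hw (Finset.notMem_empty w))
        (fun w hw hne _ => ?_), Finset.sum_empty, coe_pt, Set.indicator_of_notMem (show y ∉ ({x} : Set X) from hy)]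
      rw [coe_pt] at hne
      have : w = genericPoint V := Set.mem_singleton_iff.1 (Set.mem_of_indicator_ne_zero hne)
      exact absurd (by rw [← hw, this, hx]) hy
  obtain ⟨γ, hγ, hγe⟩ := Bivar.exists_rep
    (c.op (oq hiV (baseSq hVk)) n (ChowOps.cl (pt (genericPoint V)) (pt_mem' _ hgn)))
  obtain ⟨Hn, hHn⟩ := exists_isPushMap i hVs.2.2 hX.2.2 hiV n
  obtain ⟨Hp, hHp⟩ := exists_isPushMap i hVs.2.2 hX.2.2 hiV ((n : ℤ) - p)
  have e2 : ChowOps.cl β hβ = ChowOps.cl (AlgebraicCycle.map i δV δX γ) (Bivar.cycMap_mem_Zk _ _ _ _ hγ) := by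
    rw [← hc, ← hHp γ hγ, hγe]
    have := eq_of_pushOK hHn hHp (c.push (Bivar.OSq.self X δX) (oq hiV (baseSq hVk)) i (by
      show i ≫ 𝟙 X = 𝟙 V ≫ i
      simp) n) (ChowOps.cl (pt (genericPoint V)) (pt_mem' _ hgn))
    rw [← this, hHn]
    exact congrArg (c.cap n) (Bivar.cl_congr hmap.symm _ _)
  have e3 := cl_map_eq pX hX.2.2 hk.2.2 hδX e2
  have e4 : AlgebraicCycle.map pX δX (fun _ => (0 : ℤ)) (AlgebraicCycle.map i δV δX γ) =
      AlgebraicCycle.map (i ≫ pX) δV (fun _ => 0) γ := (map_comp i pX hiV hδX γ).symm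
  have hA0 : A (unitCl k) =
      ChowOps.cl (pt (genericPoint V)) (pt_mem' _ hgn) := hA _ _ _ hη _
  rw [hA0, ← hγe, hB γ hγ, ← Bivar.cl_congr e4 (Bivar.cycMap_mem_Zk _ _ _ _ (Bivar.cycMap_mem_Zk _ _ _ _ hγ)), ← e3]
  by_cases em : (0 : ℤ) = n - p
  · rw [scal_eq _ _ _ em, Bivar.chCast_cl]
    refine Bivar12.cl_zsmul _ _ _ _ fun z => ?_
    rw [coe_pt, Set.indicator_of_mem (Set.mem_singleton_iff.2 (Subsingleton.elim _ _)), Pi.one_apply, mul_one,
      Subsingleton.elim z (IsLocalRing.closedPoint k)]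
    rfl
  · rw [scal_ne _ _ _ em]
    refine (Bivar.cl_congr ?_ _ ((ChowOps.zk _ _ _).zero_mem)).trans Bivar.cl_zero
    ext z
    exact Bivar.cycMap_mem_Zk pX δX (fun _ => (0 : ℤ)) _ hβ z em

theorem deg_eq_zero (hδ : (n : ℤ) - p ≠ 0) (β : AlgebraicCycle X ℤ) (hβ : β ∈ Cyc.Zk X δX ((n : ℤ) - p)) :
    ChowOps.deg pX δX β = 0 :=
  Bivar.cycMap_mem_Zk pX δX (fun _ => (0 : ℤ)) _ hβ _ (Ne.symm hδ)

include hX hiV hVk hrel in
theorem holds_nonneg (hunit : Holds hiV n c d (baseSq hVk) 0 n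
      (unitCl k))
    (s : Bivar.Sq (i ≫ pX) δV (fun _ => 0)) {m : ℤ} (α : AlgebraicCycle s.Y' ℤ) (hα : α ∈ Cyc.Zk s.Y' s.δY' m)
    (hpos : ∀ y, 0 ≤ α y) : Holds hiV n c d s m (m + n) (ChowOps.cl α hα) := by
  haveI := s.lft
  have hk : Cyc.IsSetup (Spec (CommRingCat.of k)) (fun _ => (0 : ℤ)) := IntMult26.isSetup_field
  haveI := hk.1
  have hYs : Cyc.IsSetup s.Y' s.δY' := Cyc26Split.isSetup_of_lft s.g hk s.compatY
  haveI := hYs.1
  by_cases h0 : ∀ y, α y = 0
  · intro A B hA hB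
    have : ChowOps.cl α hα = 0 := (Bivar.cl_congr (Function.locallyFinsuppWithin.ext fun y => h0 y) _
      ((ChowOps.zk _ _ _).zero_mem)).trans Bivar.cl_zero
    rw [this, map_zero, map_zero, map_zero, map_zero]
  push Not at h0
  obtain ⟨y₀, hy₀⟩ := h0
  have hm : 0 ≤ m := by
    have e := UCat26.delta_eq_add_rd s.g s.compatY y₀
    have : s.δY' y₀ = m := by_contra fun hne => hy₀ (hα _ hne)
    omega
  obtain ⟨r, rfl⟩ := Int.eq_ofNat_of_zero_le hm
  let I : Type u := Σ y : {y : s.Y' // α y ≠ 0}, ULift.{u} (Fin (α y.1).toNat)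
  choose W iW hiW hiint hrW hgW using fun ξ : I => Cyc26.exists_closure_subscheme s.Y' ξ.1.1
  haveI := hiW
  haveI := hiint
  haveI : IsProper (Sigma.desc iW) := by
    refine isProper_sigmaDesc_locFin W iW fun U hU => ?_
    refine (((Cyc26.finite_support_inter α hU).preimage Subtype.val_injective.injOn).biUnion
      (t := fun y => Set.range fun j : ULift.{u} (Fin (α y.1).toNat) => (⟨y, j⟩ : I))
      fun y _ => Set.finite_range _).subset ?_
    rintro ⟨y, j⟩ ⟨z, hz⟩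
    refine Set.mem_biUnion (x := y) ⟨Specializes.mem_open ?_ U.isOpen hz, y.2⟩ ⟨j, rfl⟩
    exact specializes_iff_mem_closure.2 ((hrW ⟨y, j⟩).le ⟨z, rfl⟩)
  let ν : (∐ W) ⟶ s.Y' := Sigma.desc iW
  obtain ⟨δW, hνc⟩ := exists_deltaCompat ν s.δY'
  have huc : Cyc.DeltaCompat (ν ≫ s.g) δW (fun _ => 0) := Bivar.deltaCompat_comp ν s.g _ _ _ hνc s.compatY
  haveI hQl : LocallyOfFiniteType (ν ≫ s.g) := inferInstance
  let Q := pullback (ν ≫ s.g) (i ≫ pX)
  obtain ⟨δQ, hQc⟩ := exists_deltaCompat (pullback.snd (ν ≫ s.g) (i ≫ pX)) δV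
  let t : Bivar.Sq (i ≫ pX) δV (fun _ => 0) :=
    ⟨∐ W, Q, ν ≫ s.g, pullback.fst _ _, pullback.snd _ _, IsPullback.of_hasPullback _ _, hQl, δW, δQ, huc, hQc⟩
  have hWs : Cyc.IsSetup (∐ W) δW := Cyc26Split.isSetup_of_lft ν hYs hνc
  haveI := hWs.1
  have hι : ∀ ξ, Sigma.ι W ξ ≫ ν = iW ξ := fun ξ => Sigma.ι_desc _ _
  have hsig : ∀ w : ↥(∐ W), ∃ ξ z, Sigma.ι W ξ z = w := fun w => (sigmaOpenCover W).exists_eq w
  have hinj : ∀ (ξ ξ' : I) (z : W ξ) (z' : W ξ'), Sigma.ι W ξ z = Sigma.ι W ξ' z' → ξ = ξ' := fun ξ ξ' z z' e => by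
    rw [← sigmaMk_mk, ← sigmaMk_mk] at e
    exact congrArg Sigma.fst ((sigmaMk W).injective e)
  have hδW : ∀ ξ z, δW (Sigma.ι W ξ z) = s.δY' (iW ξ z) := fun ξ z => by
    have h1 := congrFun (delta_eq_comp (f := iW ξ) (δX := fun z => δW (Sigma.ι W ξ z)) (δY := s.δY') (by
      have := Bivar.deltaCompat_comp (Sigma.ι W ξ) ν _ _ _ (deltaCompat_surjStalks (Sigma.ι W ξ) δW) hνc
      rwa [hι] at this)) z
    exact h1
  have hgd : ∀ ξ, δW (Sigma.ι W ξ (genericPoint (W ξ))) = r := fun ξ => by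
    rw [hδW, hgW]
    exact by_contra fun hne => ξ.1.2 (hα _ hne)
  have hlt : ∀ ξ z, z ≠ genericPoint (W ξ) → δW (Sigma.ι W ξ z) < r := fun ξ z hz => by
    rw [← hgd ξ]
    exact (hWs.2.2 _ _ ((genericPoint_specializes z).map (Sigma.ι W ξ).continuous)
      fun e => hz ((Sigma.ι W ξ).isOpenEmbedding.injective e).symm).1
  haveI : Flat (ν ≫ s.g) := GrpdDim19.flat_to_field _
  have hrelW : Cyc.HasRelDim (ν ≫ s.g) r := by
    refine (FibDim14.hasRelDim_iff (ν ≫ s.g) r).2 fun w hw => ?_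
    obtain ⟨ξ, z, rfl⟩ := hsig w
    have he : Sigma.ι W ξ (genericPoint (W ξ)) = Sigma.ι W ξ z :=
      hw _ ((genericPoint_specializes z).map (Sigma.ι W ξ).continuous) (Subsingleton.elim _ _)
    have e2 := UCat26.delta_eq_add_rd (ν ≫ s.g) huc (Sigma.ι W ξ z)
    rw [← he, hgd] at e2
    rw [← he]
    omega
  let sk : Bivar.Sq (i ≫ pX) δV (fun _ => 0) := baseSq hVk
  have hsh := Cyc26.shift_of_hasRelDim (ν ≫ s.g) hrelW huc
  obtain ⟨U, hU⟩ := exists_isPullMap (ν ≫ s.g) hWs.2.2 hk.2.2 hsh (k := 0) (l := 0 + (r : ℤ)) rfl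
  obtain ⟨H, hH⟩ := exists_isPushMap ν hWs.2.2 hYs.2.2 hνc (0 + (r : ℤ))
  have h1 := Holds.pull hX hiV hVk hrel (s := sk) (t := t) (ν ≫ s.g) (Category.comp_id _) hrelW (m := 0) (l := n)
    (zero_add _).symm hU hunit
  have h2 := Holds.push hX hiV hVk hrel (s := s) (t := t) ν rfl (m := 0 + r) (l := n + r) (by ring) hH h1
  have key : H (U (unitCl k)) =
      Bivar.chCast _ _ (zero_add (r : ℤ)).symm (ChowOps.cl α hα) := by
    obtain ⟨a, ha⟩ := Cyc26.exists_cycle_pullFun (ν ≫ s.g) (δY := fun _ => (0 : ℤ)) hWs.2.2 hsh (unitCyc k)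
    have ham := Cyc26.pullFun_mem_Zk (ν ≫ s.g)
      (pt_mem' (δ := fun _ => (0 : ℤ)) (IsLocalRing.closedPoint k) rfl) ha
    rw [hU _ _ a ha ham, hH, Bivar.chCast_cl]
    refine Bivar.cl_congr ?_ _ _
    have hcoef : ∀ ξ z, a (Sigma.ι W ξ z) = if z = genericPoint (W ξ) then 1 else 0 := fun ξ z => by
      rw [ha]
      simp only [Cyc.pullFun, zero_add]
      by_cases hz : z = genericPoint (W ξ)
      · subst hz
        rw [if_pos rfl, if_pos (hgd ξ), coe_pt, Set.indicator_of_mem (Set.mem_singleton_iff.2 (Subsingleton.elim _ _)),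
          Pi.one_apply, one_mul]
        have hf : IsField ((∐ W).presheaf.stalk (Sigma.ι W ξ (genericPoint (W ξ)))) :=
          MulEquiv.isField (Field.toIsField (W ξ).functionField)
            (asIso ((Sigma.ι W ξ).stalkMap (genericPoint (W ξ)))).commRingCatIsoToRingEquiv.toMulEquiv
        have hk0 : IsField ((Spec (CommRingCat.of k)).presheaf.stalk ((ν ≫ s.g) (Sigma.ι W ξ (genericPoint (W ξ))))) := by
          haveI : IsIntegral (Spec (CommRingCat.of k)) := inferInstance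
          have e : genericPoint (Spec (CommRingCat.of k)) = (ν ≫ s.g) (Sigma.ι W ξ (genericPoint (W ξ))) :=
            Subsingleton.elim _ _
          exact e ▸ Field.toIsField (Spec (CommRingCat.of k)).functionField
        rw [IsLocalRing.isField_iff_maximalIdeal_eq.1 hk0, Ideal.map_bot]
        rw [length_field hf]
        rfl
      · rw [if_neg hz, if_neg (hlt ξ z hz).ne]
    have hdeg : ∀ ξ, ν.residueDegree (Sigma.ι W ξ (genericPoint (W ξ))) = 1 := fun ξ => by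
      have e2 : (iW ξ).residueDegree (genericPoint (W ξ)) = 1 := residueDegree_eq_one_of_surjectiveOnStalks' (iW ξ) _
      rw [← hι, residueDegree_comp'] at e2
      exact Nat.eq_one_of_mul_eq_one_right e2
    have hgen : ∀ ξ, ν (Sigma.ι W ξ (genericPoint (W ξ))) = ξ.1.1 := fun ξ => by
      rw [← Scheme.Hom.comp_apply, hι]; exact hgW ξ
    ext y
    by_cases hy : α y = 0
    · rw [hy, Cyc26.map_apply_eq_sum ν _ _ a y ∅ (fun x hx => absurd hx (Finset.notMem_empty x))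
        (fun x hx hne _ => ?_), Finset.sum_empty]
      obtain ⟨ξ, z, rfl⟩ := hsig x
      rw [hcoef] at hne
      rw [(ite_ne_right_iff.1 hne).1, hgen] at hx
      exact absurd (hx ▸ hy) ξ.1.2
    · let g : ULift.{u} (Fin (α y).toNat) → ↥(∐ W) := fun j =>
        Sigma.ι W ⟨⟨y, hy⟩, j⟩ (genericPoint (W ⟨⟨y, hy⟩, j⟩))
      have hg : Function.Injective g := fun j j' e => by
        have e' := hinj _ _ _ _ e
        exact eq_of_heq (Sigma.mk.inj e').2
      rw [Cyc26.map_apply_eq_sum ν _ _ a y (Finset.univ.map ⟨g, hg⟩) (fun x hx => ?_) (fun x hx hne _ => ?_),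
        Finset.sum_map]
      · rw [Finset.sum_eq_card_nsmul (b := (1 : ℤ)) fun j _ => ?_]
        · simp [Int.toNat_of_nonneg (hpos y)]
        · show a (g j) * (AlgebraicCycle.mapCoeff ν δW s.δY' (g j) : ℤ) = _
          simp only [g]
          rw [hcoef, if_pos rfl, AlgebraicCycle.mapCoeff, if_pos, hdeg, Nat.cast_one, mul_one]
          rw [hgd, hgen]
          exact (by_contra fun hne => hy (hα _ hne) : s.δY' y = r).symm
      · obtain ⟨j, -, rfl⟩ := Finset.mem_map.1 hx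
        exact hgen _
      · obtain ⟨⟨⟨y', hy'⟩, j⟩, z, rfl⟩ := hsig x
        rw [hcoef] at hne
        obtain rfl := (ite_ne_right_iff.1 hne).1
        rw [hgen] at hx
        obtain rfl : y' = y := hx
        exact Finset.mem_map.2 ⟨j, Finset.mem_univ _, rfl⟩
  rw [key] at h2
  have e5 : ∀ {a b : ℤ} (e : a = b) (v : ChowOps.CH s.Y' s.δY' a),
      Holds hiV n c d s b (b + n) (Bivar.chCast _ _ e v) → Holds hiV n c d s a (a + n) v := by
    rintro a b rfl v h; exact h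
  refine e5 (zero_add (r : ℤ)).symm _ ?_
  rwa [show (0 : ℤ) + r + n = n + r by ring]

include hX hiV hVk hrel in
theorem holds_all (hunit : Holds hiV n c d (baseSq hVk) 0 n
      (unitCl k))
    (s : Bivar.Sq (i ≫ pX) δV (fun _ => 0)) {m : ℤ} (v : ChowOps.CH s.Y' s.δY' m) :
    Holds hiV n c d s m (m + n) v := by
  obtain ⟨α, hα, rfl⟩ := Bivar.exists_rep v
  let a₁ : AlgebraicCycle s.Y' ℤ := ⟨fun y => max (α y) 0, Set.subset_univ _, fun y hy => by
    obtain ⟨U, hU, hfin⟩ := α.supportLocallyFiniteWithinDomain' y hy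
    exact ⟨U, hU, hfin.subset fun z hz => ⟨hz.1, fun h => hz.2 (by show max (α z) 0 = 0; rw [show α z = 0 from h, max_self])⟩⟩⟩
  let a₂ : AlgebraicCycle s.Y' ℤ := ⟨fun y => max (-α y) 0, Set.subset_univ _, fun y hy => by
    obtain ⟨U, hU, hfin⟩ := α.supportLocallyFiniteWithinDomain' y hy
    exact ⟨U, hU, hfin.subset fun z hz => ⟨hz.1, fun h => hz.2 (by show max (-α z) 0 = 0; rw [show α z = 0 from h, neg_zero, max_self])⟩⟩⟩
  have h1 : a₁ ∈ Cyc.Zk s.Y' s.δY' m := fun y hy => by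
    show max (α y) 0 = 0
    rw [hα y hy, max_self]
  have h2 : a₂ ∈ Cyc.Zk s.Y' s.δY' m := fun y hy => by
    show max (-α y) 0 = 0
    rw [hα y hy, neg_zero, max_self]
  have e : ChowOps.cl α hα = ChowOps.cl a₁ h1 - ChowOps.cl a₂ h2 := by
    rw [eq_sub_iff_add_eq]
    refine (Bivar.cl_add _ _ _ _).symm.trans (Bivar.cl_congr ?_ _ _)
    ext y
    show α y + max (-α y) 0 = max (α y) 0
    rcases le_total 0 (α y) with h | h
    · rw [max_eq_right (by omega), max_eq_left h, add_zero]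
    · rw [max_eq_left (by omega), max_eq_right h, add_neg_cancel]
  rw [e]
  exact (holds_nonneg hX hiV hVk hrel hunit s a₁ h1 fun y => le_max_right _ _).sub hiV
    (holds_nonneg hX hiV hVk hrel hunit s a₂ h2 fun y => le_max_right _ _)

end Groth.Agent.Kron26
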