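import Groth.Agent.Lib.Kron26.Strand
import Groth.Agent.Lib.Diag27.Linear

/-! # The operation attached to a functional under the Künneth hypothesis -/

set_option autoImplicit false
universe u
set_option linter.style.haveILetI false
set_option backward.isDefEq.respectTransparency false
set_option backward.isDefEq.respectTransparency.types false

open CategoryTheory CategoryTheory.Limits AlgebraicGeometry

noncomputable section

namespace Groth.Agent.Kron26

open Groth.Agent Groth.Agent.Bivar12 Groth.Agent.IntMult26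
open scoped Classical

variable {k : Type u} [Field k] {X : Scheme.{u}}

/-- The cycle of a point. -/
def pt (x : X) : AlgebraicCycle X ℤ :=
  ⟨Set.indicator {x} 1, Set.subset_univ _, fun _ _ => ⟨Set.univ, Filter.univ_mem,
    (Set.finite_singleton x).subset fun z hz => by_contra fun hne => hz.2 (Set.indicator_of_notMem hne _)⟩⟩

theorem coe_pt (x : X) : ⇑(pt x) = Set.indicator {x} (1 : X → ℤ) := rfl

theorem pt_mem {δ : X → ℤ} (x : X) : pt x ∈ Cyc.Zk X δ (δ x) := fun z hz => by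
  rw [coe_pt, Set.indicator_of_notMem (show z ∉ ({x} : Set X) from fun h => hz (by rw [Set.mem_singleton_iff.1 h]))]

theorem pt_mem' {δ : X → ℤ} (x : X) {a : ℤ} (h : δ x = a) : pt x ∈ Cyc.Zk X δ a := h ▸ pt_mem x

/-- Prime cycles span. -/
theorem cl_eq_sum [CompactSpace X] {δ : X → ℤ} {a : ℤ} (α : AlgebraicCycle X ℤ) (hα : α ∈ Cyc.Zk X δ a) :
    ∃ T : Finset {x : X // δ x = a}, ⇑α = (fun z => ∑ u ∈ T, α u.1 * Set.indicator {u.1} 1 z) ∧
      ChowOps.cl α hα = ∑ u ∈ T, α u.1 • ChowOps.cl (pt u.1) (pt_mem' u.1 u.2) := by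
  let T : Finset {x : X // δ x = a} := (Cyc26Lim.finite_support α).toFinset.subtype fun x => δ x = a
  have hT : ⇑α = fun z => ∑ u ∈ T, α u.1 * Set.indicator {u.1} 1 z := by
    funext z
    by_cases hz : δ z = a
    · rw [Finset.sum_eq_single (⟨z, hz⟩ : {x : X // δ x = a})]
      · rw [Set.indicator_of_mem (Set.mem_singleton z), Pi.one_apply, mul_one]
      · intro b _ hb
        rw [Set.indicator_of_notMem (show z ∉ ({b.1} : Set X) from fun h => hb (Subtype.ext (Set.mem_singleton_iff.1 h).symm)),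
          mul_zero]
      · intro h
        have : α z = 0 := by_contra fun hne => h (Finset.mem_subtype.2 ((Cyc26Lim.finite_support α).mem_toFinset.2 hne))
        rw [this, zero_mul]
    · rw [hα z hz]
      refine (Finset.sum_eq_zero fun b _ => ?_).symm
      rw [Set.indicator_of_notMem (show z ∉ ({b.1} : Set X) from fun h => hz (by rw [Set.mem_singleton_iff.1 h]; exact b.2)),
        mul_zero]
  refine ⟨T, hT, ?_⟩
  have hsub : (⟨α, hα⟩ : ↥(ChowOps.zk X δ a)) = ∑ u ∈ T, α u.1 • (⟨pt u.1, pt_mem' u.1 u.2⟩ : ↥(ChowOps.zk X δ a)) := by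
    refine Subtype.ext (DFunLike.ext _ _ fun z => ?_)
    rw [congrFun hT z]
    generalize T = T'
    induction T' using Finset.induction_on with
    | empty => rfl
    | insert b u hb ih => rw [Finset.sum_insert hb, Finset.sum_insert hb, ih]; rfl
  show ChowOps.clHom X δ a ⟨α, hα⟩ = _
  rw [hsub, map_sum]
  exact Finset.sum_congr rfl fun u _ => map_zsmul _ _ _

variable (pX : X ⟶ Spec (.of k)) [IsProper pX] (δX : X → ℤ)

/-- The strands, chosen. -/
def T (hX : Cyc.IsSetup X δX) (hδX : Cyc.DeltaCompat pX δX (fun _ => 0)) (x : X) :=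
  (exists_strandMaps hX hδX x rfl).choose

theorem T_spec (hX : Cyc.IsSetup X δX) (hδX : Cyc.DeltaCompat pX δX (fun _ => 0)) (x : X) :
    StrandProps pX δX x (δX x) (T pX δX hX hδX x) :=
  (exists_strandMaps hX hδX x rfl).choose_spec

/-- The Künneth property. -/
abbrev Kun : Prop :=
  ∀ (Y P : Scheme.{u}) (pY : Y ⟶ Spec (.of k)) [LocallyOfFiniteType pY]
      (q₁ : P ⟶ X) (q₂ : P ⟶ Y), IsPullback q₁ q₂ pX pY →
      ∀ (δY : Y → ℤ) (δP : P → ℤ), Cyc.IsSetup Y δY → Cyc.IsSetup P δP →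
      Cyc.DeltaCompat pY δY (fun _ => 0) → Cyc.DeltaCompat q₁ δP δX →
      ∃ κ : ∀ a m : ℤ, ChowOps.CH X δX a →ₗ[ℤ] ChowOps.CH Y δY (m - a) →ₗ[ℤ] ChowOps.CH P δP m,
        (∀ (a m : ℤ) (α : AlgebraicCycle X ℤ) (hα : α ∈ Cyc.Zk X δX a)
          (β : AlgebraicCycle Y ℤ) (hβ : β ∈ Cyc.Zk Y δY (m - a))
          (ζ : AlgebraicCycle P ℤ) (hζ : ζ ∈ Cyc.Zk P δP m),
          (∀ t : P, ζ t =
            if δP t = δX (q₁ t) + δY (q₂ t) then
            α (q₁ t) * β (q₂ t) *
              ((Module.length (P.presheaf.stalk t) (P.presheaf.stalk t ⧸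
                (Ideal.map (q₁.stalkMap t).hom (IsLocalRing.maximalIdeal (X.presheaf.stalk (q₁ t))) ⊔
                  Ideal.map (q₂.stalkMap t).hom (IsLocalRing.maximalIdeal (Y.presheaf.stalk (q₂ t)))))).toNat : ℤ)
          else 0) →
          κ a m (ChowOps.cl α hα) (ChowOps.cl β hβ) = ChowOps.cl ζ hζ) ∧
        ∀ m : ℤ, Function.Bijective
          (DirectSum.toModule ℤ ℤ (ChowOps.CH P δP m) (fun a : ℤ => TensorProduct.lift (κ a m)))

variable {pX δX} (hX : Cyc.IsSetup X δX) (hδX : Cyc.DeltaCompat pX δX (fun _ => 0)) (hK : Kun pX δX)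

theorem kappa_pt (s : Bivar.Sq pX δX (fun _ => 0))
    {κ : ∀ a m : ℤ, ChowOps.CH X δX a →ₗ[ℤ] ChowOps.CH s.Y' s.δY' (m - a) →ₗ[ℤ] ChowOps.CH s.X' s.δX' m}
    (hκ : ∀ (a m : ℤ) (α : AlgebraicCycle X ℤ) (hα : α ∈ Cyc.Zk X δX a)
          (β : AlgebraicCycle s.Y' ℤ) (hβ : β ∈ Cyc.Zk s.Y' s.δY' (m - a))
          (ζ : AlgebraicCycle s.X' ℤ) (hζ : ζ ∈ Cyc.Zk s.X' s.δX' m),
          (∀ t, ζ t = ep s ⇑α ⇑β t) → κ a m (ChowOps.cl α hα) (ChowOps.cl β hβ) = ChowOps.cl ζ hζ)
    (x : X) (m : ℤ) (v : ChowOps.CH s.Y' s.δY' (m - δX x)) :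
    κ (δX x) m (ChowOps.cl (pt x) (pt_mem x)) v = T pX δX hX hδX x s _ m (sub_add_cancel m (δX x)).symm v := by
  obtain ⟨β, hβ, rfl⟩ := Bivar.exists_rep v
  obtain ⟨ζ, hζ, h1, h2⟩ := (T_spec pX δX hX hδX x).1 s _ m (sub_add_cancel m (δX x)).symm β hβ
  rw [show T pX δX hX hδX x s _ m (sub_add_cancel m (δX x)).symm (ChowOps.cl β hβ) = ChowOps.cl ζ hζ from h2]
  exact hκ _ _ _ _ _ _ _ _ fun t => congrFun h1 t

include hK in
/-- The strands generate, and there is a functional contracting the first factor. -/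
theorem exists_contract (p : ℤ) (φ : ChowOps.CH X δX p →+ ℤ) (s : Bivar.Sq pX δX (fun _ => 0)) (m : ℤ) :
    (∀ (M : Type u) (_ : AddCommGroup M) (F G : ChowOps.CH s.X' s.δX' m →+ M),
      (∀ (x : X) v, F (T pX δX hX hδX x s (m - δX x) m (sub_add_cancel m (δX x)).symm v) =
        G (T pX δX hX hδX x s (m - δX x) m (sub_add_cancel m (δX x)).symm v)) → F = G) ∧
    ∃ Ψ : ChowOps.CH s.X' s.δX' m →+ ChowOps.CH s.Y' s.δY' (m - p),
      ∀ (x : X) v, (δX x ≠ p → Ψ (T pX δX hX hδX x s (m - δX x) m (sub_add_cancel m (δX x)).symm v) = 0) ∧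
        ∀ h : δX x = p, Ψ (T pX δX hX hδX x s (m - δX x) m (sub_add_cancel m (δX x)).symm v) =
          φ (ChowOps.cl (pt x) (pt_mem' x h)) • Bivar.chCast s.Y' s.δY' (show m - δX x = m - p by rw [h]) v := by
  haveI := s.lft
  haveI : CompactSpace X := QuasiCompact.compactSpace_of_compactSpace pX
  obtain ⟨κ, hκ, hbij⟩ := hK s.Y' s.X' s.g s.g' s.f' s.isPullback.flip s.δY' s.δX' (setupY hX s) (setupP hX s)
    s.compatY s.compatX
  refine ⟨fun M _ F G h => AddMonoidHom.ext fun y => ?_, ?_⟩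
  · obtain ⟨d, rfl⟩ := (hbij m).2 y
    induction d using DirectSum.induction_on with
    | zero => simp only [map_zero]
    | add d e h1 h2 => simp only [map_add, h1, h2]
    | of a z =>
      rw [← DirectSum.lof_eq_of ℤ, DirectSum.toModule_lof]
      induction z using TensorProduct.induction_on with
      | zero => simp only [map_zero]
      | add d e h1 h2 => simp only [map_add, h1, h2]
      | tmul u v =>
        rw [TensorProduct.lift.tmul]
        obtain ⟨α, hα, rfl⟩ := Bivar.exists_rep u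
        obtain ⟨S, -, hS⟩ := cl_eq_sum α hα
        rw [hS, map_sum, LinearMap.sum_apply, map_sum, map_sum]
        refine Finset.sum_congr rfl fun w _ => ?_
        rw [map_zsmul, LinearMap.smul_apply, map_zsmul, map_zsmul]
        congr 1
        obtain ⟨x, rfl⟩ := w
        rw [kappa_pt hX hδX s hκ x m v]
        exact h x v
  · let B : ∀ a : ℤ, ChowOps.CH X δX a →ₗ[ℤ] ChowOps.CH s.Y' s.δY' (m - a) →ₗ[ℤ] ChowOps.CH s.Y' s.δY' (m - p) :=
      fun a => if h : a = p then
        LinearMap.mk₂ ℤ (fun u v => φ (Bivar.chCast X δX h u) • Bivar.chCast s.Y' s.δY' (by rw [h]) v)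
          (fun u u' v => by rw [map_add, map_add]; exact add_zsmul _ _ _)
          (fun c u v => by rw [map_zsmul, map_zsmul, smul_assoc])
          (fun u v v' => by rw [map_add]; exact zsmul_add _ _ _)
          (fun c u v => by rw [map_zsmul, smul_comm])
      else 0
    let e := LinearEquiv.ofBijective _ (hbij m)
    let Ψ := (DirectSum.toModule ℤ ℤ (ChowOps.CH s.Y' s.δY' (m - p)) fun a => TensorProduct.lift (B a)).comp
      e.symm.toLinearMap
    refine ⟨Ψ.toAddMonoidHom, fun x v => ?_⟩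
    have key : Ψ (T pX δX hX hδX x s (m - δX x) m (sub_add_cancel m (δX x)).symm v) =
        B (δX x) (ChowOps.cl (pt x) (pt_mem x)) v := by
      rw [← kappa_pt hX hδX s hκ x m v]
      have he : e (DirectSum.lof ℤ ℤ _ (δX x) (TensorProduct.tmul ℤ (ChowOps.cl (pt x) (pt_mem x)) v)) =
          κ (δX x) m (ChowOps.cl (pt x) (pt_mem x)) v := by
        show DirectSum.toModule ℤ ℤ _ _ _ = _
        rw [DirectSum.toModule_lof, TensorProduct.lift.tmul]
      show DirectSum.toModule ℤ ℤ _ _ (e.symm _) = _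
      rw [← he, LinearEquiv.symm_apply_apply, DirectSum.toModule_lof, TensorProduct.lift.tmul]
    refine ⟨fun h => key.trans ?_, fun h => key.trans ?_⟩
    · simp only [B, dif_neg h, LinearMap.zero_apply]
    · simp only [B, dif_pos h, LinearMap.mk₂_apply, Bivar.chCast_cl]

end Groth.Agent.Kron26
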