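import Groth.Agent.Lib.Kron26.Key

/-! # The key formula: `q₂_*(c ∩ ([x] × v)) = deg(c ∩ [x]) v` -/

set_option autoImplicit false
universe u
set_option linter.style.haveILetI false
set_option backward.isDefEq.respectTransparency false
set_option backward.isDefEq.respectTransparency.types false

open CategoryTheory CategoryTheory.Limits AlgebraicGeometry

noncomputable section

namespace Groth.Agent.Kron26

open Groth.Agent Groth.Agent.Bivar12
open scoped Classical

variable {k : Type u} [Field k] {X : Scheme.{u}} {pX : X ⟶ Spec (.of k)} [IsProper pX] {δX : X → ℤ}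

instance proper_snd (s : Bivar.Sq pX δX (fun _ => 0)) : IsProper s.f' :=
  MorphismProperty.of_isPullback (P := @IsProper) s.isPullback.flip inferInstance

/-- The product as a test scheme over `X`. -/
abbrev prodO (s : Bivar.Sq pX δX (fun _ => 0)) : Bivar.OSq X δX :=
  ⟨s.X', s.g', MorphismProperty.of_isPullback (P := @LocallyOfFiniteType) s.isPullback s.lft, s.δX', s.compatX⟩

variable (hX : Cyc.IsSetup X δX) (hδX : Cyc.DeltaCompat pX δX (fun _ => 0))

include hX in
theorem op_T {p : ℤ} (c : Bivar.OpCl p X δX) (x : X) (β : AlgebraicCycle X ℤ) (hβ : β ∈ Cyc.Zk X δX (δX x - p))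
    (hc : c.cap (δX x) (ChowOps.cl (pt x) (pt_mem x)) = ChowOps.cl β hβ) (s : Bivar.Sq pX δX (fun _ => 0))
    (m l : ℤ) (e : l = m + δX x) {Bq : ChowOps.CH s.X' s.δX' (l - p) →+ ChowOps.CH s.Y' s.δY' (l - p)}
    (hBq : IsPushMap s.f' s.δX' s.δY' Bq) (v : ChowOps.CH s.Y' s.δY' m) :
    Bq (c.op (prodO s) l (T pX δX hX hδX x s m l e v)) = scal s.Y' s.δY' (ChowOps.deg pX δX β) m (l - p) v := by
  obtain ⟨V, i, _, _, hr, hi⟩ := Cyc26.exists_closure_subscheme X x
  have hiV : Cyc.DeltaCompat i (fun z => δX (i z)) δX := Cyc26.deltaCompat_closed i δX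
  have hVk : Cyc.DeltaCompat (i ≫ pX) (fun z => δX (i z)) (fun _ => 0) := Bivar.deltaCompat_comp i pX _ _ _ hiV hδX
  haveI : Flat (i ≫ pX) := GrpdDim19.flat_to_field _
  obtain ⟨h0, hrel, -⟩ := UCat26.hasRelDim_of_irreducible (i ≫ pX) IntMult26.isSetup_field hVk
  simp only [hi, sub_zero] at h0 hrel
  obtain ⟨n, hn⟩ := Int.eq_ofNat_of_zero_le h0
  rw [hn, Int.toNat_natCast] at hrel
  haveI := s.lft
  let Q : Scheme.{u} := pullback s.g' i
  let J : Q ⟶ s.X' := pullback.fst s.g' i
  have sqi : IsPullback J (pullback.snd s.g' i) s.g' i := IsPullback.of_hasPullback _ _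
  haveI : IsClosedImmersion J := MorphismProperty.of_isPullback sqi.flip inferInstance
  haveI : LocallyOfFiniteType s.g' := MorphismProperty.of_isPullback (P := @LocallyOfFiniteType) s.isPullback inferInstance
  have hJ : Cyc.DeltaCompat J (fun z => s.δX' (J z)) s.δX' := Cyc26.deltaCompat_closed J s.δX'
  have hQV : Cyc.DeltaCompat (pullback.snd s.g' i) (fun z => s.δX' (J z)) (fun z => δX (i z)) := by
    refine deltaCompat_cancel _ i hiV ?_
    rw [← pullback.condition]
    exact Bivar.deltaCompat_comp J s.g' _ _ _ hJ s.compatX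
  let sQ : Bivar.Sq (i ≫ pX) (fun z => δX (i z)) (fun _ => 0) :=
    ⟨s.Y', Q, s.g, J ≫ s.f', pullback.snd s.g' i, sqi.paste_horiz s.isPullback, s.lft, s.δY',
      fun z => s.δX' (J z), s.compatY, hQV⟩
  have F := facts hX hiV hVk hrel sQ
  have hPs := setupP hX s
  haveI := F.noethX; haveI := F.noethY; haveI := F.flat; haveI := F.lftf
  haveI : IsLocallyNoetherian s.X' := hPs.1
  have hsh := Cyc26.shift_of_hasRelDim sQ.f' F.rel F.comp
  have eln : l = m + n := by rw [e, hn]
  obtain ⟨A, hA⟩ := exists_isPullMap sQ.f' F.dimX F.dimY hsh (k := m) (l := l) eln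
  obtain ⟨B, hB⟩ := exists_isPushMap sQ.f' F.dimX F.dimY F.comp (l - p)
  obtain ⟨Jl, hJl⟩ := exists_isPushMap J F.dimX hPs.2.2 hJ l
  obtain ⟨Jp, hJp⟩ := exists_isPushMap J F.dimX hPs.2.2 hJ (l - p)
  have e1 : T pX δX hX hδX x s m l e v = Jl (A v) := by
    subst eln
    obtain ⟨α, hα, rfl⟩ := Bivar.exists_rep v
    obtain ⟨ζ, hζ, h1, h2⟩ := (T_spec pX δX hX hδX x).1 s m _ e α hα
    obtain ⟨α', hα'⟩ := Cyc26.exists_cycle_pullFun sQ.f' F.dimX hsh α
    have hm := Cyc26.pullFun_mem_Zk sQ.f' hα hα'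
    refine h2.trans ?_
    refine Eq.trans ?_ (congrArg Jl (hA α hα α' hα' hm)).symm
    refine Eq.trans ?_ (hJl α' hm).symm
    refine Bivar.cl_congr (DFunLike.coe_injective ?_) _ _
    rw [h1, ep, IntMult26.ext_symm]
    refine (map_strand s.isPullback s.compatY hδX (compat_fst hδX s) J (fun _ => rfl) ?_ ?_ α α'
      (by rw [hn]; exact hα')).symm
    · rw [Cyc26.range_of_isPullback sqi, hr]
    · exact fun w hw => ker_strand sqi hi w hw
  have e2 := eq_of_pushOK hJl hJp (c.push (prodO s) (oq hiV sQ) J (by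
    show J ≫ s.g' = pullback.snd s.g' i ≫ i
    exact pullback.condition) l) (A v)
  have e3 : ∀ y, Bq (Jp y) = B y := fun y => by
    obtain ⟨α, hα, rfl⟩ := Bivar.exists_rep y
    refine (congrArg Bq (hJp α hα)).trans ((hBq _ _).trans ?_)
    refine Eq.trans ?_ (hB α hα).symm
    refine Bivar.cl_congr ?_ _ _
    exact (map_comp J s.f' hJ (by
      have := (deltaCompat_cancel s.f' s.g s.compatY (compat_fst hδX s))
      exact this) α).symm
  have hβn : β ∈ Cyc.Zk X δX ((n : ℤ) - p) := by rw [← hn]; exact hβ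
  have hcn : c.cap (n : ℤ) (ChowOps.cl (pt x) (pt_mem' x hn)) = ChowOps.cl β hβn := by
    have : ∀ (a : ℤ) (ha : δX x = a) (hb : β ∈ Cyc.Zk X δX (a - p)),
        c.cap a (ChowOps.cl (pt x) (pt_mem' x ha)) = ChowOps.cl β hb := by rintro a rfl hb; exact hc
    exact this _ hn hβn
  have hall := holds_all hX hiV hVk hrel (holds_base hX hiV hVk hrel hi hn hδX β hβn hcn) sQ (m := m) v
  subst eln
  refine (congrArg (fun z => Bq (c.op (prodO s) _ z)) e1).trans ?_
  refine ((congrArg Bq e2).trans (e3 _)).trans ?_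
  exact hall A B hA hB

end Groth.Agent.Kron26
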