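import Groth.Agent.Lib.Kron26.Link
import Groth.Agent.Lib.Cyc26.PnChow

/-! # Kronecker duality -/

set_option autoImplicit false
universe u
set_option linter.style.haveILetI false
set_option backward.isDefEq.respectTransparency false
set_option backward.isDefEq.respectTransparency.types false

open CategoryTheory CategoryTheory.Limits AlgebraicGeometry

noncomputable section

namespace Groth.Agent.Kron26

open Groth.Agent Groth.Agent.Bivar12
open scoped Classical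

variable {k : Type u} [Field k] {X : Scheme.{u}} {pX : X ⟶ Spec (.of k)} [IsProper pX] {δX : X → ℤ}
  (hX : Cyc.IsSetup X δX) (hδX : Cyc.DeltaCompat pX δX (fun _ => 0))

include hX hδX in
theorem exists_degHom (b : ℤ) : ∃ D : ChowOps.CH X δX b →+ ℤ,
    ∀ (α : AlgebraicCycle X ℤ) (hα : α ∈ Cyc.Zk X δX b), D (ChowOps.cl α hα) = ChowOps.deg pX δX α := by
  haveI := hX.1
  let f : ↥(ChowOps.zk X δX b) →+ ℤ := ((Cyc26Pn.degA pX hX.2.2 hδX).comp (Cyc26A.mk δX)).comp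
    (AddMonoidHom.mk' (fun a => a.1) fun _ _ => rfl)
  have hf : ChowOps.ratTriv X δX b ≤ f.ker := by
    refine (AddSubgroup.closure_le _).2 fun a ha => AddMonoidHom.mem_ker.2 ?_
    show Cyc26Pn.degA pX hX.2.2 hδX (Cyc26A.mk δX a.1) = 0
    rw [Cyc26A.mk_eq_zero_of_ratEquivZero ha, map_zero]
  exact ⟨QuotientAddGroup.lift _ f hf, fun α hα => Cyc26Pn.degA_mk pX hX.2.2 hδX α⟩

include hX hδX in
/-- `q₂_*(c ∩ [u × v]) = deg(c ∩ [u]) [v]`. -/
theorem op_ext_prod {p : ℤ} (c : Bivar.OpCl p X δX) (s : Bivar.Sq pX δX (fun _ => 0)) {a m : ℤ}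
    (u : AlgebraicCycle X ℤ) (hu : u ∈ Cyc.Zk X δX a) (β : AlgebraicCycle X ℤ) (hβ : β ∈ Cyc.Zk X δX (a - p))
    (hc : c.cap a (ChowOps.cl u hu) = ChowOps.cl β hβ)
    (v : AlgebraicCycle s.Y' ℤ) (hv : v ∈ Cyc.Zk s.Y' s.δY' (m - a))
    (ζ : AlgebraicCycle s.X' ℤ) (hζ : ζ ∈ Cyc.Zk s.X' s.δX' m) (hcoef : ∀ t, ζ t = ep s ⇑u ⇑v t)
    {Bq : ChowOps.CH s.X' s.δX' (m - p) →+ ChowOps.CH s.Y' s.δY' (m - p)} (hBq : IsPushMap s.f' s.δX' s.δY' Bq) :
    Bq (c.op (prodO s) m (ChowOps.cl ζ hζ)) =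
      scal s.Y' s.δY' (ChowOps.deg pX δX β) (m - a) (m - p) (ChowOps.cl v hv) := by
  haveI : CompactSpace X := QuasiCompact.compactSpace_of_compactSpace pX
  obtain ⟨D, hD⟩ := exists_degHom hX hδX (a - p)
  obtain ⟨S, hS, hScl⟩ := cl_eq_sum u hu
  have hex : ∀ w : {x : X // δX x = a}, ∃ (z : AlgebraicCycle s.X' ℤ) (hz : z ∈ Cyc.Zk s.X' s.δX' m)
      (b : AlgebraicCycle X ℤ) (hb : b ∈ Cyc.Zk X δX (a - p)),
      ⇑z = ep s (Set.indicator {w.1} 1) ⇑v ∧ c.cap a (ChowOps.cl (pt w.1) (pt_mem' w.1 w.2)) = ChowOps.cl b hb ∧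
      Bq (c.op (prodO s) m (ChowOps.cl z hz)) =
        scal s.Y' s.δY' (ChowOps.deg pX δX b) (m - a) (m - p) (ChowOps.cl v hv) := by
    rintro ⟨x, rfl⟩
    obtain ⟨z, hz, h1, h2⟩ := (T_spec pX δX hX hδX x).1 s _ m (sub_add_cancel m (δX x)).symm v hv
    obtain ⟨b, hb, h3⟩ := Bivar.exists_rep (c.cap (δX x) (ChowOps.cl (pt x) (pt_mem x)))
    refine ⟨z, hz, b, hb, h1, h3.symm, ?_⟩
    refine Eq.trans ?_ (op_T hX hδX c x b hb h3.symm s _ m (sub_add_cancel m (δX x)).symm hBq (ChowOps.cl v hv))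
    exact congrArg (fun y => Bq (c.op (prodO s) m y)) h2.symm
  choose z hz b hb hzc hbc hop using hex
  have hsub : (⟨ζ, hζ⟩ : ↥(ChowOps.zk s.X' s.δX' m)) =
      ∑ w ∈ S, u w.1 • (⟨z w, hz w⟩ : ↥(ChowOps.zk s.X' s.δX' m)) := by
    refine Subtype.ext (DFunLike.ext _ _ fun t => ?_)
    have e1 : ζ t = ∑ w ∈ S, u w.1 * z w t := by
      rw [hcoef]
      simp only [ep, IntMult26.ext]
      rw [congrFun hS (s.g' t)]
      by_cases hd : s.δX' t = δX (s.g' t) + s.δY' (s.f' t)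
      · rw [if_pos hd, Finset.sum_mul, Finset.sum_mul]
        refine Finset.sum_congr rfl fun w _ => ?_
        rw [congrFun (hzc w) t]
        simp only [ep, IntMult26.ext]
        rw [if_pos hd]
        ring
      · rw [if_neg hd]
        refine (Finset.sum_eq_zero fun w _ => ?_).symm
        rw [congrFun (hzc w) t]
        simp only [ep, IntMult26.ext]
        rw [if_neg hd, mul_zero]
    rw [e1]
    generalize S = S'
    induction S' using Finset.induction_on with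
    | empty => rfl
    | insert w S hw ih => rw [Finset.sum_insert hw, Finset.sum_insert hw, ih]; rfl
  have hζcl : ChowOps.cl ζ hζ = ∑ w ∈ S, u w.1 • ChowOps.cl (z w) (hz w) := by
    show ChowOps.clHom _ _ _ ⟨ζ, hζ⟩ = _
    rw [hsub, map_sum]
    exact Finset.sum_congr rfl fun w _ => map_zsmul _ _ _
  have hdeg : ChowOps.deg pX δX β = ∑ w ∈ S, u w.1 * ChowOps.deg pX δX (b w) := by
    rw [← hD β hβ, ← hc, hScl, map_sum, map_sum]
    refine Finset.sum_congr rfl fun w _ => ?_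
    rw [map_zsmul, map_zsmul, hbc, hD, smul_eq_mul]
  rw [hζcl, map_sum, map_sum, hdeg]
  by_cases em : m - a = m - p
  · rw [scal_eq _ _ _ em]
    refine Eq.trans ?_ (map_sum (zmultiplesHom _ (Bivar.chCast s.Y' s.δY' em (ChowOps.cl v hv))) _ _).symm
    refine Finset.sum_congr rfl fun w _ => ?_
    refine ((congrArg Bq (map_zsmul (c.op (prodO s) m) _ _)).trans (map_zsmul Bq _ _)).trans ?_
    refine (congrArg (fun y => u w.1 • y) ((hop w).trans (scal_eq _ _ _ em _))).trans ?_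
    exact (mul_smul _ _ _).symm
  · rw [scal_ne _ _ _ em]
    refine Finset.sum_eq_zero fun w _ => ?_
    refine ((congrArg Bq (map_zsmul (c.op (prodO s) m) _ _)).trans (map_zsmul Bq _ _)).trans ?_
    exact (congrArg (fun y => u w.1 • y) ((hop w).trans (scal_ne _ _ _ em _))).trans (smul_zero _)

include hX hδX in
/-- `c ∩ z = q₂_*(c ∩ γ_* z)`. -/
theorem op_graph {p : ℤ} (c : Bivar.OpCl p X δX) (s : Bivar.Sq pX δX (fun _ => 0)) (f : s.Y' ⟶ X)
    (hfl : LocallyOfFiniteType f) (hfδ : Cyc.DeltaCompat f s.δY' δX) (γ : s.Y' ⟶ s.X') [IsClosedImmersion γ]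
    (h1 : γ ≫ s.g' = f) (h2 : γ ≫ s.f' = 𝟙 s.Y') (m : ℤ) (α : AlgebraicCycle s.Y' ℤ) (hα : α ∈ Cyc.Zk s.Y' s.δY' m)
    {Bq : ChowOps.CH s.X' s.δX' (m - p) →+ ChowOps.CH s.Y' s.δY' (m - p)} (hBq : IsPushMap s.f' s.δX' s.δY' Bq) :
    c.op ⟨s.Y', f, hfl, s.δY', hfδ⟩ m (ChowOps.cl α hα) =
      Bq (c.op (prodO s) m (ChowOps.cl (AlgebraicCycle.map γ s.δY' s.δX' α) (Bivar.cycMap_mem_Zk _ _ _ _ hα))) := by
  have hYs := setupY hX s
  have hPs := setupP hX s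
  haveI := hYs.1
  haveI : IsLocallyNoetherian s.X' := hPs.1
  have hc2 : Cyc.DeltaCompat s.f' s.δX' s.δY' := by
    haveI := s.lft
    haveI : LocallyOfFiniteType s.f' := inferInstance
    exact deltaCompat_cancel s.f' s.g s.compatY (compat_fst hδX s)
  have hγc : Cyc.DeltaCompat γ s.δY' s.δX' := by
    haveI : LocallyOfFiniteType s.g' := (prodO s).lft
    refine deltaCompat_cancel γ s.g' s.compatX ?_
    rw [h1]; exact hfδ
  obtain ⟨G, hG⟩ := exists_isPushMap γ hYs.2.2 hPs.2.2 hγc m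
  obtain ⟨G', hG'⟩ := exists_isPushMap γ hYs.2.2 hPs.2.2 hγc (m - p)
  have e := eq_of_pushOK hG hG' (c.push (prodO s) ⟨s.Y', f, hfl, s.δY', hfδ⟩ γ h1 m) (ChowOps.cl α hα)
  obtain ⟨w, hw, hwe⟩ := Bivar.exists_rep (c.op ⟨s.Y', f, hfl, s.δY', hfδ⟩ m (ChowOps.cl α hα))
  refine hwe.symm.trans ?_
  refine Eq.trans ?_ (congrArg Bq ((congrArg (c.op (prodO s) m) (hG α hα).symm).trans e)).symm
  refine Eq.trans ?_ (congrArg (fun y => Bq (G' y)) hwe)
  refine Eq.trans ?_ (congrArg Bq (hG' w hw)).symm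
  refine Eq.trans ?_ (hBq _ _).symm
  refine Bivar.cl_congr ?_ _ _
  rw [← map_comp γ s.f' hγc hc2]
  simp only [h2]
  exact (map_id s.δY' w).symm

end Groth.Agent.Kron26
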