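import Groth.Agent.Lib.Kron26.Kunneth

/-! # The operational class attached to a functional -/

set_option autoImplicit false
universe u
set_option linter.style.haveILetI false
set_option backward.isDefEq.respectTransparency false
set_option backward.isDefEq.respectTransparency.types false

open CategoryTheory CategoryTheory.Limits AlgebraicGeometry

noncomputable section

namespace Groth.Agent.Kron26

open Groth.Agent Groth.Agent.Bivar12 Groth.Agent.IntMult26

variable {k : Type u} [Field k] {X : Scheme.{u}} {pX : X ⟶ Spec (.of k)} [IsProper pX] {δX : X → ℤ}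
  (hX : Cyc.IsSetup X δX) (hδX : Cyc.DeltaCompat pX δX (fun _ => 0))

theorem exists_prodδ (s : Bivar.OSq X δX) :
    ∃ δP : ↥(pullback pX (s.g ≫ pX)) → ℤ, Cyc.DeltaCompat (pullback.fst pX (s.g ≫ pX)) δP δX := by
  haveI := s.lft
  exact exists_deltaCompat _ _

/-- The product of a test scheme with `X`. -/
abbrev sqOf (hδX : Cyc.DeltaCompat pX δX (fun _ => 0)) (s : Bivar.OSq X δX) : Bivar.Sq pX δX (fun _ => 0) :=
  ⟨s.Y, pullback pX (s.g ≫ pX), s.g ≫ pX, pullback.snd _ _, pullback.fst _ _, (IsPullback.of_hasPullback _ _).flip,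
    by haveI := s.lft; infer_instance, s.δ, (exists_prodδ s).choose,
    Bivar.deltaCompat_comp s.g pX _ _ _ s.compat hδX, (exists_prodδ s).choose_spec⟩

/-- The graph. -/
def graph (hδX : Cyc.DeltaCompat pX δX (fun _ => 0)) (s : Bivar.OSq X δX) : s.Y ⟶ (sqOf hδX s).X' :=
  pullback.lift s.g (𝟙 _) (Category.id_comp _).symm

theorem graph_fst (s : Bivar.OSq X δX) : graph hδX s ≫ (sqOf hδX s).g' = s.g := pullback.lift_fst _ _ _

theorem graph_snd (s : Bivar.OSq X δX) : graph hδX s ≫ (sqOf hδX s).f' = 𝟙 _ := pullback.lift_snd _ _ _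

instance (s : Bivar.OSq X δX) : IsClosedImmersion (graph hδX s) := by
  haveI : IsSeparated (sqOf hδX s).f' :=
    MorphismProperty.of_isPullback (P := @IsSeparated) (sqOf hδX s).isPullback.flip inferInstance
  haveI : IsClosedImmersion (graph hδX s ≫ (sqOf hδX s).f') := by rw [graph_snd]; infer_instance
  exact IsClosedImmersion.of_comp _ (sqOf hδX s).f'

theorem graph_compat (s : Bivar.OSq X δX) : Cyc.DeltaCompat (graph hδX s) s.δ (sqOf hδX s).δX' := by
  refine deltaCompat_cancel _ (sqOf hδX s).g' (sqOf hδX s).compatX ?_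
  rw [graph_fst]
  exact s.compat

/-- The map of products induced by a map of test schemes. -/
def mapP (s t : Bivar.OSq X δX) (h : t.Y ⟶ s.Y) (w : h ≫ s.g = t.g) : (sqOf hδX t).X' ⟶ (sqOf hδX s).X' :=
  pullback.lift (pullback.fst pX (t.g ≫ pX)) (pullback.snd pX (t.g ≫ pX) ≫ h) (by
    rw [Category.assoc, reassoc_of% w, pullback.condition])

theorem mapP_fst (s t : Bivar.OSq X δX) (h : t.Y ⟶ s.Y) (w : h ≫ s.g = t.g) :
    mapP hδX s t h w ≫ (sqOf hδX s).g' = (sqOf hδX t).g' := pullback.lift_fst _ _ _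

theorem mapP_snd (s t : Bivar.OSq X δX) (h : t.Y ⟶ s.Y) (w : h ≫ s.g = t.g) :
    mapP hδX s t h w ≫ (sqOf hδX s).f' = (sqOf hδX t).f' ≫ h := pullback.lift_snd _ _ _

theorem sqOf_w (s t : Bivar.OSq X δX) (h : t.Y ⟶ s.Y) (w : h ≫ s.g = t.g) :
    h ≫ (sqOf hδX s).g = (sqOf hδX t).g := by
  show h ≫ s.g ≫ pX = t.g ≫ pX
  rw [reassoc_of% w]

theorem graph_mapP (s t : Bivar.OSq X δX) (h : t.Y ⟶ s.Y) (w : h ≫ s.g = t.g) :
    graph hδX t ≫ mapP hδX s t h w = h ≫ graph hδX s := by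
  refine pullback.hom_ext ?_ ?_
  · show (graph hδX t ≫ mapP hδX s t h w) ≫ (sqOf hδX s).g' = (h ≫ graph hδX s) ≫ (sqOf hδX s).g'
    rw [Category.assoc, mapP_fst, graph_fst, Category.assoc, graph_fst, w]
  · show (graph hδX t ≫ mapP hδX s t h w) ≫ (sqOf hδX s).f' = (h ≫ graph hδX s) ≫ (sqOf hδX s).f'
    rw [Category.assoc, mapP_snd, reassoc_of% (graph_snd hδX t), Category.assoc, graph_snd, Category.comp_id]

theorem mapP_sq (s t : Bivar.OSq X δX) (h : t.Y ⟶ s.Y) (w : h ≫ s.g = t.g) :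
    IsPullback (sqOf hδX t).f' (mapP hδX s t h w) h (sqOf hδX s).f' :=
  isPullback_of_over h (mapP hδX s t h w) (sqOf_w hδX s t h w) (mapP_snd hδX s t h w) (mapP_fst hδX s t h w)

theorem graph_sq (s t : Bivar.OSq X δX) (h : t.Y ⟶ s.Y) (w : h ≫ s.g = t.g) :
    IsPullback h (graph hδX t) (graph hδX s) (mapP hδX s t h w) := by
  refine (IsPullback.of_right ?_ (graph_mapP hδX s t h w) (mapP_sq hδX s t h w)).flip
  rw [graph_snd, graph_snd]
  exact IsPullback.of_horiz_isIso ⟨by simp⟩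

include hδX in
theorem over_compat (s t : Bivar.OSq X δX) (h : t.Y ⟶ s.Y) (w : h ≫ s.g = t.g) :
    LocallyOfFiniteType h ∧ Cyc.DeltaCompat h t.δ s.δ :=
  deltaCompat_of_over (s := sqOf hδX s) (t := sqOf hδX t) h (sqOf_w hδX s t h w)

theorem chCast_comp_pull {A B : Scheme.{u}} {f : A ⟶ B} {δA : A → ℤ} {δB : B → ℤ} {r k k' l l' : ℤ}
    (e : k = k') (e' : l = l') {F : ChowOps.CH B δB k →+ ChowOps.CH A δA l}
    {F' : ChowOps.CH B δB k' →+ ChowOps.CH A δA l'} (hA : IsLocallyNoetherian A) [Flat f]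
    (hd : Cyc.IsDimFun A δA) (hc : ∀ z, (∀ w, f w = f z → w ⤳ z → w = z) → δA z = δB (f z) + r) (hl : l = k + r)
    (h : IsPullMap f δA δB r F) (h' : IsPullMap f δA δB r F') (v : ChowOps.CH B δB k) :
    Bivar.chCast A δA e' (F v) = F' (Bivar.chCast B δB e v) := by
  subst e e'
  haveI := hA
  rw [IsPullMap.eq hd hc hl h h']
  rfl

theorem chCast_comp_gysin {A B : Scheme.{u}} [IsLocallyNoetherian B] {f : A ⟶ B} [IsClosedImmersion f] {δA : A → ℤ}
    {δB : B → ℤ} {N : B.Modules} (hN : PicF.IsInvertible N) {σ : N.presheaf.obj (Opposite.op ⊤)}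
    (hσ : Cyc.IsZeroSchemeOf f N σ) (hd : Cyc.IsDimFun B δB) (hδA : δA = fun e => δB (f e)) {k k' l l' : ℤ}
    (e : k = k') (e' : l = l') (hl : l = k - 1) {F : ChowOps.CH B δB k →+ ChowOps.CH A δA l}
    {F' : ChowOps.CH B δB k' →+ ChowOps.CH A δA l'} (h : IsGysinMap f δB δA N F) (h' : IsGysinMap f δB δA N F')
    (v : ChowOps.CH B δB k) : Bivar.chCast A δA e' (F v) = F' (Bivar.chCast B δB e v) := by
  subst e e'
  obtain ⟨α, hα, rfl⟩ := Bivar.exists_rep v
  obtain ⟨w, hw⟩ := Cyc26.exists_sections hN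
  obtain ⟨γ, hγm, hγ⟩ := exists_gysinCycle f hd hδA hN σ hw hl hα
  show F _ = F' _
  rw [h N ⟨Iso.refl N⟩ σ hσ α hα w hw γ hγ hγm]
  exact (h' N ⟨Iso.refl N⟩ σ hσ α hα w hw γ hγ hγm).symm

theorem chCast_push {A B : Scheme.{u}} {f : A ⟶ B} [QuasiCompact f] {δA : A → ℤ} {δB : B → ℤ} {k k' : ℤ} (e : k = k')
    {F : ChowOps.CH A δA k →+ ChowOps.CH B δB k} {F' : ChowOps.CH A δA k' →+ ChowOps.CH B δB k'}
    (h : IsPushMap f δA δB F) (h' : IsPushMap f δA δB F') (v : ChowOps.CH A δA k) :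
    Bivar.chCast B δB e (F v) = F' (Bivar.chCast A δA e v) := by
  subst e
  rw [IsPushMap.eq h h']
  rfl

variable (hK : Kun pX δX)

include hX hK in
theorem exists_op (p : ℤ) (φ : ChowOps.CH X δX p →+ ℤ) :
    ∃ (c : Bivar.OpCl p X δX) (Ψ : ∀ (s : Bivar.OSq X δX) (m : ℤ),
        ChowOps.CH (sqOf hδX s).X' (sqOf hδX s).δX' m →+ ChowOps.CH s.Y s.δ (m - p)),
      (∀ s m (x : X) v, (δX x ≠ p → Ψ s m (T pX δX hX hδX x (sqOf hδX s) (m - δX x) m (sub_add_cancel m (δX x)).symm v) = 0) ∧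
        ∀ h : δX x = p, Ψ s m (T pX δX hX hδX x (sqOf hδX s) (m - δX x) m (sub_add_cancel m (δX x)).symm v) =
          φ (ChowOps.cl (pt x) (pt_mem' x h)) • Bivar.chCast s.Y s.δ (show m - δX x = m - p by rw [h]) v) ∧
      ∀ (s : Bivar.OSq X δX) (m : ℤ) (α : AlgebraicCycle s.Y ℤ) (hα : α ∈ Cyc.Zk s.Y s.δ m),
        c.op s m (ChowOps.cl α hα) = Ψ s m (ChowOps.cl (AlgebraicCycle.map (graph hδX s) s.δ (sqOf hδX s).δX' α)
          (Bivar.cycMap_mem_Zk _ _ _ _ hα)) := by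
  classical
  have hΨ : ∀ (s : Bivar.OSq X δX) (m : ℤ),
      ∃ Ψ : ChowOps.CH (sqOf hδX s).X' (sqOf hδX s).δX' m →+ ChowOps.CH s.Y s.δ (m - p), ∀ (x : X) v,
        (δX x ≠ p → Ψ (T pX δX hX hδX x (sqOf hδX s) (m - δX x) m (sub_add_cancel m (δX x)).symm v) = 0) ∧
        ∀ h : δX x = p, Ψ (T pX δX hX hδX x (sqOf hδX s) (m - δX x) m (sub_add_cancel m (δX x)).symm v) =
          φ (ChowOps.cl (pt x) (pt_mem' x h)) • Bivar.chCast s.Y s.δ (show m - δX x = m - p by rw [h]) v :=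
    fun s m => (exists_contract hX hδX hK p φ (sqOf hδX s) m).2
  choose Ψ hΨ' using hΨ
  have hgen := fun (s : Bivar.OSq X δX) (m : ℤ) => (exists_contract hX hδX hK p φ (sqOf hδX s) m).1
  have hY : ∀ s : Bivar.OSq X δX, Cyc.IsSetup s.Y s.δ := fun s => setupY hX (sqOf hδX s)
  have hP : ∀ s : Bivar.OSq X δX, Cyc.IsSetup (sqOf hδX s).X' (sqOf hδX s).δX' := fun s => setupP hX (sqOf hδX s)
  haveI hNY : ∀ s : Bivar.OSq X δX, IsLocallyNoetherian s.Y := fun s => (hY s).1
  haveI hNP : ∀ s : Bivar.OSq X δX, IsLocallyNoetherian (sqOf hδX s).X' := fun s => (hP s).1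
  have hΓ := fun (s : Bivar.OSq X δX) (m : ℤ) =>
    exists_isPushMap (graph hδX s) (hY s).2.2 (hP s).2.2 (graph_compat hδX s) m
  choose Γ hΓ' using hΓ
  let op : ∀ (s : Bivar.OSq X δX) (m : ℤ), ChowOps.CH s.Y s.δ m →+ ChowOps.CH s.Y s.δ (m - p) :=
    fun s m => (Ψ s m).comp (Γ s m)
  refine ⟨{ op := op, push := ?_, pull := ?_, gysin := ?_ }, Ψ, hΨ', fun s m α hα => congrArg (Ψ s m) (hΓ' s m α hα)⟩
  · intro s t h _ w m
    have w₁ := sqOf_w hδX s t h w
    have hsq := mapP_sq hδX s t h w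
    haveI : IsProper (mapP hδX s t h w) := MorphismProperty.of_isPullback (P := @IsProper) hsq inferInstance
    have hc : Cyc.DeltaCompat h t.δ s.δ := (over_compat hδX s t h w).2
    have hc' : Cyc.DeltaCompat (mapP hδX s t h w) (sqOf hδX t).δX' (sqOf hδX s).δX' :=
      (deltaCompat_of_over' (mapP hδX s t h w) (mapP_fst hδX s t h w)).2
    obtain ⟨A, hA⟩ := exists_isPushMap h (hY t).2.2 (hY s).2.2 hc m
    obtain ⟨A', hA'⟩ := exists_isPushMap h (hY t).2.2 (hY s).2.2 hc (m - p)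
    obtain ⟨B, hB⟩ := exists_isPushMap (mapP hδX s t h w) (hP t).2.2 (hP s).2.2 hc' m
    have hkey : (Ψ s m).comp B = A'.comp (Ψ t m) := by
      refine hgen t m _ inferInstance _ _ fun x v => ?_
      obtain ⟨A₀, hA₀⟩ := exists_isPushMap h (hY t).2.2 (hY s).2.2 hc (m - δX x)
      have e1 := eq_of_pushOK hA₀ hB ((T_spec pX δX hX hδX x).2.1 (sqOf hδX s) (sqOf hδX t) h
        (mapP hδX s t h w) w₁ (mapP_snd hδX s t h w) (mapP_fst hδX s t h w) (m - δX x) m (sub_add_cancel m (δX x)).symm) v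
      refine (congrArg (Ψ s m) e1.symm).trans ?_
      show _ = A' (Ψ t m _)
      by_cases hp : δX x = p
      · rw [(hΨ' s m x _).2 hp, (hΨ' t m x v).2 hp, map_zsmul]
        exact congrArg _ (chCast_push _ hA₀ hA' v)
      · rw [(hΨ' s m x _).1 hp, (hΨ' t m x v).1 hp, map_zero]
    refine pushOK_of_eq hA hA' fun y => ?_
    show Ψ s m (Γ s m (A y)) = A' (Ψ t m (Γ t m y))
    have e2 : Γ s m (A y) = B (Γ t m y) := by
      obtain ⟨α, hα, rfl⟩ := Bivar.exists_rep y
      rw [hA α hα, hΓ', hΓ' t m α hα, hB]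
      refine Bivar.cl_congr ?_ _ _
      rw [← map_comp h (graph hδX s) hc (graph_compat hδX s), ← map_comp (graph hδX t) _ (graph_compat hδX t) hc']
      simp only [graph_mapP]
    rw [e2]
    exact DFunLike.congr_fun hkey _
  · intro s t h _ r hr w m
    have w₁ := sqOf_w hδX s t h w
    have hsq := mapP_sq hδX s t h w
    haveI := (over_compat hδX s t h w).1
    haveI : Flat (mapP hδX s t h w) := MorphismProperty.of_isPullback (P := @Flat) hsq inferInstance
    haveI : LocallyOfFiniteType (mapP hδX s t h w) :=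
      (deltaCompat_of_over' (mapP hδX s t h w) (mapP_fst hδX s t h w)).1
    haveI : LocallyOfFiniteType (graph hδX t) := inferInstance
    have hr' : Cyc.HasRelDim (mapP hδX s t h w) r := FibDim14.hasRelDim_baseChange hsq hr
    have hc := Cyc26.shift_of_hasRelDim h hr (over_compat hδX s t h w).2
    have hc' := Cyc26.shift_of_hasRelDim (mapP hδX s t h w) hr'
      (deltaCompat_of_over' (mapP hδX s t h w) (mapP_fst hδX s t h w)).2
    obtain ⟨A, hA⟩ := exists_isPullMap h (hY t).2.2 (hY s).2.2 hc (k := m) (l := m + r) rfl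
    obtain ⟨A', hA'⟩ := exists_isPullMap h (hY t).2.2 (hY s).2.2 hc (k := m - p) (l := m + r - p) (by ring)
    obtain ⟨B, hB⟩ := exists_isPullMap (mapP hδX s t h w) (hP t).2.2 (hP s).2.2 hc' (k := m) (l := m + r) rfl
    have hkey : (Ψ t (m + r)).comp B = A'.comp (Ψ s m) := by
      refine hgen s m _ inferInstance _ _ fun x v => ?_
      obtain ⟨A₀, hA₀⟩ := exists_isPullMap h (hY t).2.2 (hY s).2.2 hc (k := m - δX x) (l := m - δX x + r) rfl
      have e1 := eq_of_pullOK (hY t).2.2 hc rfl hA₀ hB ((T_spec pX δX hX hδX x).2.2.1 (sqOf hδX s) (sqOf hδX t) h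
        (mapP hδX s t h w) r hr hr' w₁ (mapP_snd hδX s t h w) (mapP_fst hδX s t h w) (m - δX x) m
        (sub_add_cancel m (δX x)).symm (by ring)) v
      refine (congrArg (Ψ t (m + r)) e1.symm).trans ?_
      show _ = A' (Ψ s m _)
      have e3 : ∀ (j : ℤ) (hj : j = m + r - δX x) (e : m + r = j + δX x) (y : ChowOps.CH t.Y t.δ j),
          T pX δX hX hδX x (sqOf hδX t) j (m + r) e y = T pX δX hX hδX x (sqOf hδX t) (m + r - δX x) (m + r)
            (sub_add_cancel _ _).symm (Bivar.chCast t.Y t.δ hj y) := by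
        rintro j rfl e y; rfl
      rw [e3 _ (by ring)]
      by_cases hp : δX x = p
      · rw [(hΨ' t (m + r) x _).2 hp, (hΨ' s m x v).2 hp, map_zsmul]
        refine congrArg _ ?_
        have e4 : ∀ {a b c : ℤ} (e : a = b) (e' : b = c) (y : ChowOps.CH t.Y t.δ a),
            Bivar.chCast t.Y t.δ e' (Bivar.chCast t.Y t.δ e y) = Bivar.chCast t.Y t.δ (e.trans e') y := by
          rintro a b c rfl rfl y; rfl
        rw [e4]
        exact chCast_comp_pull _ _ (hNY t) (hY t).2.2 hc rfl hA₀ hA' v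
      · rw [(hΨ' t (m + r) x _).1 hp, (hΨ' s m x v).1 hp, map_zero]
    refine pullOK_of_eq (hY t).2.2 hc (by ring) hA hA' fun y => ?_
    show Ψ t (m + r) (Γ t (m + r) (A y)) = A' (Ψ s m (Γ s m y))
    have e2 : Γ t (m + r) (A y) = B (Γ s m y) := by
      obtain ⟨α, hα, rfl⟩ := Bivar.exists_rep y
      obtain ⟨α', hα'⟩ := Cyc26.exists_cycle_pullFun h (hY t).2.2 hc α
      have hm := Cyc26.pullFun_mem_Zk h hα hα'
      rw [hA α hα α' hα' hm, hΓ', hΓ' s m α hα]
      refine (hB _ _ _ ?_ _).symm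
      exact (pullFun_map_of_isPullback (graph_sq hδX s t h w) (hP t).2.2 (graph_compat hδX s)
        (graph_compat hδX t) hc' α hα α' hα').symm
    rw [e2]
    exact DFunLike.congr_fun hkey _
  · intro s t i _ w L hL σ hσ m
    have w₁ := sqOf_w hδX s t i w
    have hsq := mapP_sq hδX s t i w
    haveI : IsClosedImmersion (mapP hδX s t i w) :=
      MorphismProperty.of_isPullback (P := @IsClosedImmersion) hsq inferInstance
    have hτ := isZeroSchemeOf_pullback (sqOf hδX s).f' hsq.flip hL hσ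
    have hN := Groth.Agent.Twist.isInvertible_pullback (sqOf hδX s).f' hL
    have hti : t.δ = fun e => s.δ (i e) := delta_eq_comp (over_compat hδX s t i w).2
    have htj : (sqOf hδX t).δX' = fun e => (sqOf hδX s).δX' (mapP hδX s t i w e) :=
      delta_eq_comp (deltaCompat_of_over' (mapP hδX s t i w) (mapP_fst hδX s t i w)).2
    obtain ⟨A, hA⟩ := exists_isGysinMap i (hY s).2.2 hti hL hσ (k := m) (l := m - 1) rfl
    obtain ⟨A', hA'⟩ := exists_isGysinMap i (hY s).2.2 hti hL hσ (k := m - p) (l := m - 1 - p) (by ring)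
    obtain ⟨B, hB⟩ := exists_isGysinMap (mapP hδX s t i w) (hP s).2.2 htj hN hτ (k := m) (l := m - 1) rfl
    have hkey : (Ψ t (m - 1)).comp B = A'.comp (Ψ s m) := by
      refine hgen s m _ inferInstance _ _ fun x v => ?_
      obtain ⟨A₀, hA₀⟩ := exists_isGysinMap i (hY s).2.2 hti hL hσ (k := m - δX x) (l := m - δX x - 1) rfl
      have e1 := eq_of_gysinOK (hY s).2.2 hti hL (Iso.refl L) hσ hN (Iso.refl _) hτ rfl hA₀ hB
        ((T_spec pX δX hX hδX x).2.2.2 (sqOf hδX s) (sqOf hδX t) i (mapP hδX s t i w) w₁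
          (mapP_snd hδX s t i w) (mapP_fst hδX s t i w) L hL σ hσ _ hτ (m - δX x) m
          (sub_add_cancel m (δX x)).symm (by ring)) v
      refine (congrArg (Ψ t (m - 1)) e1.symm).trans ?_
      show _ = A' (Ψ s m _)
      have e3 : ∀ (j : ℤ) (hj : j = m - 1 - δX x) (e : m - 1 = j + δX x) (y : ChowOps.CH t.Y t.δ j),
          T pX δX hX hδX x (sqOf hδX t) j (m - 1) e y = T pX δX hX hδX x (sqOf hδX t) (m - 1 - δX x) (m - 1)
            (sub_add_cancel _ _).symm (Bivar.chCast t.Y t.δ hj y) := by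
        rintro j rfl e y; rfl
      rw [e3 _ (by ring)]
      by_cases hp : δX x = p
      · rw [(hΨ' t (m - 1) x _).2 hp, (hΨ' s m x v).2 hp, map_zsmul]
        refine congrArg _ ?_
        have e4 : ∀ {a b c : ℤ} (e : a = b) (e' : b = c) (y : ChowOps.CH t.Y t.δ a),
            Bivar.chCast t.Y t.δ e' (Bivar.chCast t.Y t.δ e y) = Bivar.chCast t.Y t.δ (e.trans e') y := by
          rintro a b c rfl rfl y; rfl
        rw [e4]
        exact chCast_comp_gysin hL hσ (hY s).2.2 hti _ _ rfl hA₀ hA' v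
      · rw [(hΨ' t (m - 1) x _).1 hp, (hΨ' s m x v).1 hp, map_zero]
    refine gysinOK₁_of_eq (hY s).2.2 hti hL hσ (by ring) hA hA' fun y => ?_
    show Ψ t (m - 1) (Γ t (m - 1) (A y)) = A' (Ψ s m (Γ s m y))
    have hsqγ : IsPullback i (graph hδX t) (graph hδX s) (mapP hδX s t i w) := graph_sq hδX s t i w
    have e2 : B (Γ s m y) = Γ t (m - 1) (A y) :=
      gysin_push_comm (hP s) (graph hδX s) (graph_compat hδX s) (mapP hδX s t i w) i (graph hδX t) hsqγ htj hti
        hN hτ (pullIso (L := L) (graph hδX s) (graph_snd hδX s) ≪≫ (Scheme.Modules.pullbackId s.Y).app L)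
        rfl (hΓ' s m) (hΓ' t (m - 1)) hA hB y
    rw [← e2]
    exact DFunLike.congr_fun hkey _

end Groth.Agent.Kron26
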