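import Groth.Agent.Lib.IntMult26.ExtProdRat
import Groth.Agent.Lib.Cyc26.Closure
import Groth.Agent.Lib.Cyc26.PullPush

/-! # Products with prime cycles -/

set_option autoImplicit false
universe u
set_option linter.style.haveILetI false
set_option backward.isDefEq.respectTransparency.types false

open CategoryTheory Limits AlgebraicGeometry TopologicalSpace

noncomputable section

namespace Groth.Agent.Kron26

open Groth.Agent Groth.Agent.Cyc26A Groth.Agent.IntMult26
open scoped Classical

variable {K : Type u} [Field K] {X Y P : Scheme.{u}} {f : X ⟶ Spec (CommRingCat.of K)}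
  {g : Y ⟶ Spec (CommRingCat.of K)} {p : P ⟶ X} {q : P ⟶ Y}

theorem ker_strand {V Q : Scheme.{u}} [IsIntegral V] {i : V ⟶ Y} [IsClosedImmersion i] {J : Q ⟶ P} {r : Q ⟶ V}
    (sqi : IsPullback J r q i) {η : Y} (hv : i (genericPoint V) = η) (w : Q) (hw : q (J w) = η) :
    RingHom.ker (J.stalkMap w).hom =
      (IsLocalRing.maximalIdeal (Y.presheaf.stalk (q (J w)))).map (q.stalkMap (J w)).hom := by
  refine le_antisymm ?_ ?_
  · refine (Cyc26.ker_stalkMap_pullback_fst q i sqi w).trans ?_
    rw [Cyc26.stalkTo, ← Ideal.map_map]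
    refine Ideal.map_mono (Ideal.map_le_iff_le_comap.2 fun a ha => (IsLocalRing.mem_maximalIdeal _).2 fun hu => ?_)
    have e : q (J w) = i (r w) := by
      rw [← Scheme.Hom.comp_apply, sqi.w, Scheme.Hom.comp_apply]
    haveI : IsIso (Y.presheaf.stalkSpecializes (specializes_of_eq e)) :=
      ⟨Y.presheaf.stalkSpecializes (specializes_of_eq e.symm), by simp, by simp⟩
    have hu' : IsUnit a := (isUnit_map_iff (Y.presheaf.stalkSpecializes (specializes_of_eq e)).hom a).1 hu
    exact (hu'.map (i.stalkMap (r w)).hom).ne_zero (RingHom.mem_ker.1 ha)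
  · -- the maximal ideal at η dies on the integral closed subscheme
    set v' := r w
    have e : i v' = q (J w) := by rw [← Scheme.Hom.comp_apply, ← sqi.w, Scheme.Hom.comp_apply]
    have hv' : v' = genericPoint V := by
      refine i.isClosedEmbedding.injective ?_
      rw [e, hw, hv]
    have hf : IsField (V.presheaf.stalk v') := by
      rw [hv']
      exact Field.toIsField V.functionField
    refine Ideal.map_le_iff_le_comap.2 fun a ha => ?_
    show J.stalkMap w (q.stalkMap (J w) a) = 0
    have h1 : i.stalkMap v' (Y.presheaf.stalkSpecializes (specializes_of_eq e) a) = 0 := by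
      by_contra hne
      have hu : IsUnit (i.stalkMap v' (Y.presheaf.stalkSpecializes (specializes_of_eq e) a)) := by
        obtain ⟨b, hb⟩ := hf.mul_inv_cancel hne
        exact IsUnit.of_mul_eq_one b hb
      have hu2 := (isUnit_map_iff (i.stalkMap v').hom _).1 hu
      haveI : IsIso (Y.presheaf.stalkSpecializes (specializes_of_eq e)) :=
        ⟨Y.presheaf.stalkSpecializes (specializes_of_eq e.symm), by simp, by simp⟩
      exact (IsLocalRing.mem_maximalIdeal _).1 ha
        ((isUnit_map_iff (Y.presheaf.stalkSpecializes (specializes_of_eq e)).hom a).1 hu2)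
    have h2 : (J ≫ q).stalkMap w a = 0 := by
      have h3 : (r ≫ i).stalkMap w (Y.presheaf.stalkSpecializes (specializes_of_eq e) a) = 0 := by
        rw [Scheme.Hom.stalkMap_comp]
        exact (congrArg ((r).stalkMap w) h1).trans (map_zero _)
      have h4 := ConcreteCategory.congr_hom (Scheme.Hom.stalkMap_congr_hom (J ≫ q) (r ≫ i) sqi.w w) a
      rw [h4]
      exact h3
    rw [Scheme.Hom.stalkMap_comp] at h2
    exact h2

/-- The cycle of a product with a prime cycle, as pushed forward from the strand. -/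
theorem map_strand [LocallyOfFiniteType f] [LocallyOfFiniteType g] (hsq : IsPullback p q f g) {δX : X → ℤ}
    {δY : Y → ℤ} {δ : P → ℤ} (hX : Cyc.DeltaCompat f δX (fun _ => 0)) (hY : Cyc.DeltaCompat g δY (fun _ => 0))
    (hP : Cyc.DeltaCompat (p ≫ f) δ (fun _ => 0)) {η : Y} {Q : Scheme.{u}} (J : Q ⟶ P) [IsClosedImmersion J]
    {j : Q → ℤ} (hj : ∀ w, j w = δ (J w)) (hrange : Set.range J = q ⁻¹' closure {η})
    (hker : ∀ w, q (J w) = η → RingHom.ker (J.stalkMap w).hom =
      (IsLocalRing.maximalIdeal (Y.presheaf.stalk (q (J w)))).map (q.stalkMap (J w)).hom)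
    (α : AlgebraicCycle X ℤ) (c₀ : AlgebraicCycle Q ℤ) (hc₀ : ⇑c₀ = Cyc.pullFun (J ≫ p) j δX (δY η) ⇑α) :
    ⇑(AlgebraicCycle.map J j δ c₀) = fun z => ext p q δX δY δ ⇑α (Set.indicator {η} 1) z := by
  have hk : Cyc.IsSetup (Spec (CommRingCat.of K)) (fun _ => (0 : ℤ)) := isSetup_field
  haveI : LocallyOfFiniteType p := MorphismProperty.of_isPullback hsq.flip inferInstance
  have hPs := Cyc26Split.isSetup_of_lft (p ≫ f) hk hP
  haveI := hPs.1
  suffices h : ⇑(AlgebraicCycle.map J j δ c₀) = fun z => if q z = η then ext p q δX δY δ ⇑α (fun _ => 1) z else 0 by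
    rw [h]
    funext z
    by_cases hz : q z = η
    · rw [if_pos hz]
      simp only [ext, Set.indicator_of_mem (show q z ∈ ({η} : Set Y) from hz), Pi.one_apply]
    · rw [if_neg hz]
      simp [ext, Set.indicator_of_notMem (show q z ∉ ({η} : Set Y) from hz)]
  funext z
  by_cases hz : z ∈ Set.range J
  swap
  · rw [Cyc26.map_apply_eq_sum J j δ c₀ z ∅ (fun w hw => absurd hw (Finset.notMem_empty w))
      (fun w hw _ _ => absurd ⟨w, hw⟩ hz), Finset.sum_empty]
    rw [hrange] at hz
    rw [if_neg (fun e : q z = η => hz (show q z ∈ closure {η} by rw [e]; exact subset_closure rfl))]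
  obtain ⟨w, rfl⟩ := hz
  rw [Cyc26.map_apply_eq_sum J j δ c₀ (J w) {w} (fun u hu => by rw [Finset.mem_singleton.1 hu])
    (fun u hu _ _ => Finset.mem_singleton.2 (J.isClosedEmbedding.injective hu)), Finset.sum_singleton,
    AlgebraicCycle.mapCoeff, if_pos (hj w), Bivar12.residueDegree_eq_one_of_surjectiveOnStalks' J w,
    Nat.cast_one, mul_one, hc₀, Cyc.pullFun]
  have hqw : η ⤳ q (J w) := specializes_iff_mem_closure.2 (show q (J w) ∈ closure {η} from hrange.le ⟨w, rfl⟩)
  by_cases hw : q (J w) = η
  · have hqY : δY (q (J w)) = δY η := by rw [hw]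
    rw [if_pos hw, ext, hqY, hj]
    by_cases hd : δ (J w) = δX (p (J w)) + δY η
    swap
    · rw [if_neg hd]
      exact if_neg hd
    rw [if_pos hd, mul_one]
    refine (if_pos hd).trans ?_
    show α (p (J w)) * _ = α (p (J w)) * _
    congr 2
    -- the two lengths agree
    let φ := (J.stalkMap w).hom
    have hφ : Function.Surjective φ := J.stalkMap_surjective w
    letI := φ.toAlgebra
    let M := (IsLocalRing.maximalIdeal (X.presheaf.stalk (p (J w)))).map (p.stalkMap (J w)).hom ⊔
      (IsLocalRing.maximalIdeal (Y.presheaf.stalk (q (J w)))).map (q.stalkMap (J w)).hom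
    have hI : (IsLocalRing.maximalIdeal (X.presheaf.stalk ((J ≫ p) w))).map ((J ≫ p).stalkMap w).hom =
        M.map φ := by
      have e1 : ((IsLocalRing.maximalIdeal (Y.presheaf.stalk (q (J w)))).map (q.stalkMap (J w)).hom).map φ = ⊥ := by
        rw [← hker w hw, Ideal.map_eq_bot_iff_le_ker]
      rw [Ideal.map_sup, e1, sup_bot_eq, Ideal.map_map, Scheme.Hom.stalkMap_comp]
      rfl
    rw [hI]
    let mkQ : P.presheaf.stalk (J w) →ₗ[P.presheaf.stalk (J w)] (Q.presheaf.stalk w ⧸ M.map φ) :=
        { toFun := fun a => Ideal.Quotient.mk (M.map φ) (φ a)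
          map_add' := fun a b => by rw [map_add, map_add]
          map_smul' := fun a b => by
            rw [smul_eq_mul, map_mul, map_mul, RingHom.id_apply, Algebra.smul_def]
            rfl }
    have hsur : Function.Surjective mkQ := fun x => by
      obtain ⟨y, rfl⟩ := Ideal.Quotient.mk_surjective x
      obtain ⟨a, rfl⟩ := hφ y
      exact ⟨a, rfl⟩
    have hkerQ : LinearMap.ker mkQ = M := by
      ext a
      rw [LinearMap.mem_ker]
      show Ideal.Quotient.mk (M.map φ) (φ a) = 0 ↔ _
      rw [Ideal.Quotient.eq_zero_iff_mem, ← Ideal.mem_comap, Ideal.comap_map_of_surjective φ hφ,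
        ← RingHom.ker_eq_comap_bot, sup_eq_left.2 (by rw [show RingHom.ker φ = _ from hker w hw]; exact le_sup_right)]
    rw [Module.length_eq_of_surjective (S := P.presheaf.stalk (J w)) hφ |>.symm]
    exact congrArg ENat.toNat (((Submodule.quotEquivOfEq _ _ hkerQ.symm).trans (mkQ.quotKerEquivOfSurjective hsur)).length_eq).symm
  · rw [if_neg hw, hj]
    refine if_neg fun hd => ?_
    change δ (J w) = δX (p (J w)) + δY η at hd
    -- the bound from the closure of `q (J w)`
    obtain ⟨Q', J', hJ', hfl', j', hj', hsh', hrange', -⟩ := exists_strand hsq hX hY hP (q (J w))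
    haveI := hJ'
    haveI := hfl'
    have hjc' : Cyc.DeltaCompat J' j' δ := by
      have e : j' = fun w => δ (J' w) := funext hj'
      rw [e]; exact Cyc26.deltaCompat_closed J' δ
    have hQs' := Cyc26Split.isSetup_of_lft J' hPs hjc'
    haveI := hQs'.1
    obtain ⟨w', hw'⟩ : J w ∈ Set.range J' := hrange' ▸ subset_closure rfl
    obtain ⟨w₀, h1, h2, h3⟩ := Cyc26.exists_maximal_fibre hQs'.2.2 (J' ≫ p) w'
    have h4 := UCat26.delta_le_of_specializes hQs'.2.2 h1
    rw [hsh' w₀ h3, h2, hj', hw', Scheme.Hom.comp_apply, hw'] at h4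
    have hdY := (Cyc26Split.isSetup_of_lft g hk hY).2.2
    have h5 := (hdY η (q (J w)) hqw (Ne.symm hw)).1
    omega

end Groth.Agent.Kron26
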