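import Groth.Agent.Lib.Kron26.Prime
import Groth.Agent.Lib.Kron26.Comm
import Groth.Agent.Lib.Cyc26.Closure

/-! # The operation `v ↦ [x] × v` on all test schemes -/

set_option autoImplicit false
universe u
set_option linter.style.haveILetI false
set_option backward.isDefEq.respectTransparency false
set_option backward.isDefEq.respectTransparency.types false

open CategoryTheory CategoryTheory.Limits AlgebraicGeometry

noncomputable section

namespace Groth.Agent.Kron26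

open Groth.Agent Groth.Agent.Bivar12 Groth.Agent.IntMult26
open scoped Classical

theorem gysinOK_castComp {S D S' D' : Scheme.{u}} {δS : S → ℤ} {δD : D → ℤ} {δS' : S' → ℤ} {δD' : D' → ℤ}
    {i : D ⟶ S} {L : S.Modules} {σ : L.presheaf.obj (Opposite.op ⊤)} {j : D' ⟶ S'} {N : S'.Modules}
    {τ : N.presheaf.obj (Opposite.op ⊤)} {k l l' k₁ l₁ l₁' : ℤ}
    {φ : ChowOps.CH S δS k →+ ChowOps.CH S' δS' l} {ψ : ChowOps.CH D δD k₁ →+ ChowOps.CH D' δD' l₁}
    (h : Bivar.GysinOK δS δD δS' δD' i L σ j N τ φ ψ) (e : l = l') (e₁ : l₁ = l₁') :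
    Bivar.GysinOK δS δD δS' δD' i L σ j N τ ((Bivar.chCast S' δS' e).toAddMonoidHom.comp φ)
      ((Bivar.chCast D' δD' e₁).toAddMonoidHom.comp ψ) := by
  subst e e₁
  exact h

variable {k : Type u} [Field k] {X : Scheme.{u}} {pX : X ⟶ Spec (.of k)} {δX : X → ℤ}

/-- The coefficients of `u × v` in a product diagram. -/
abbrev ep (s : Bivar.Sq pX δX (fun _ => 0)) (u : X → ℤ) (v : s.Y' → ℤ) : s.X' → ℤ :=
  ext s.g' s.f' δX s.δY' s.δX' u v

variable [IsProper pX] (hX : Cyc.IsSetup X δX) (hδX : Cyc.DeltaCompat pX δX (fun _ => 0))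

include hδX in
theorem compat_fst (s : Bivar.Sq pX δX (fun _ => 0)) : Cyc.DeltaCompat (s.f' ≫ s.g) s.δX' (fun _ => 0) := by
  rw [s.isPullback.w]
  exact Bivar.deltaCompat_comp s.g' pX _ _ _ s.compatX hδX

include hX in
omit [IsProper pX] in
theorem setupY (s : Bivar.Sq pX δX (fun _ => 0)) : Cyc.IsSetup s.Y' s.δY' := by
  haveI := s.lft
  exact Cyc26Split.isSetup_of_lft s.g IntMult26.isSetup_field s.compatY

include hX in
omit [IsProper pX] in
theorem setupP (s : Bivar.Sq pX δX (fun _ => 0)) : Cyc.IsSetup s.X' s.δX' := by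
  haveI := s.lft
  haveI : LocallyOfFiniteType s.g' := MorphismProperty.of_isPullback (P := @LocallyOfFiniteType) s.isPullback inferInstance
  exact Cyc26Split.isSetup_of_lft s.g' hX s.compatX

variable (pX δX) in
/-- What a strand provides. -/
def StrandProps (x : X) (a : ℤ) (T : ∀ (s : Bivar.Sq pX δX (fun _ => 0)) (m l : ℤ), l = m + a →
    (ChowOps.CH s.Y' s.δY' m →+ ChowOps.CH s.X' s.δX' l)) : Prop :=
      (∀ s m l e (v : AlgebraicCycle s.Y' ℤ) (hv : v ∈ Cyc.Zk s.Y' s.δY' m),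
        ∃ (ζ : AlgebraicCycle s.X' ℤ) (hζ : ζ ∈ Cyc.Zk s.X' s.δX' l),
          ⇑ζ = ep s (Set.indicator {x} 1) ⇑v ∧ T s m l e (ChowOps.cl v hv) = ChowOps.cl ζ hζ) ∧
      (∀ (s t : Bivar.Sq pX δX (fun _ => 0)) (h : t.Y' ⟶ s.Y') [IsProper h] (h' : t.X' ⟶ s.X') [IsProper h'],
        h ≫ s.g = t.g → h' ≫ s.f' = t.f' ≫ h → h' ≫ s.g' = t.g' →
        ∀ m l e, Bivar.PushOK t.δY' t.δX' s.δY' s.δX' h h' (T t m l e) (T s m l e)) ∧
      (∀ (s t : Bivar.Sq pX δX (fun _ => 0)) (h : t.Y' ⟶ s.Y') [Flat h] (h' : t.X' ⟶ s.X') [Flat h'] (r : ℕ),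
        Cyc.HasRelDim h r → Cyc.HasRelDim h' r → h ≫ s.g = t.g → h' ≫ s.f' = t.f' ≫ h → h' ≫ s.g' = t.g' →
        ∀ m l e e', Bivar.PullOK s.δY' s.δX' t.δY' t.δX' h h' (r : ℤ) (T s m l e) (T t (m + r) (l + r) e')) ∧
      (∀ (s t : Bivar.Sq pX δX (fun _ => 0)) (i : t.Y' ⟶ s.Y') [IsClosedImmersion i] (j : t.X' ⟶ s.X')
        [IsClosedImmersion j], i ≫ s.g = t.g → j ≫ s.f' = t.f' ≫ i → j ≫ s.g' = t.g' →
        ∀ (L : s.Y'.Modules), PicF.IsInvertible L → ∀ (σ : L.presheaf.obj (Opposite.op ⊤)),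
          Cyc.IsZeroSchemeOf i L σ → ∀ (τ : ((Scheme.Modules.pullback s.f').obj L).presheaf.obj (Opposite.op ⊤)),
          Cyc.IsZeroSchemeOf j ((Scheme.Modules.pullback s.f').obj L) τ → ∀ m l e e',
            Bivar.GysinOK s.δY' t.δY' s.δX' t.δX' i L σ j ((Scheme.Modules.pullback s.f').obj L) τ
              (T s m l e) (T t (m - 1) (l - 1) e'))

include hX hδX in
/-- The strand over a prime cycle of `X`, with its three compatibilities. -/
theorem exists_strandMaps (x : X) {a : ℤ} (hx : δX x = a) :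
    ∃ T : ∀ (s : Bivar.Sq pX δX (fun _ => 0)) (m l : ℤ), l = m + a →
        (ChowOps.CH s.Y' s.δY' m →+ ChowOps.CH s.X' s.δX' l), StrandProps pX δX x a T := by
  obtain ⟨V, i, _, _, hr, hi⟩ := Cyc26.exists_closure_subscheme X x
  have hS0 : Cyc.IsSetup (Spec (CommRingCat.of k)) (fun _ => (0 : ℤ)) := IntMult26.isSetup_field
  have hiV : Cyc.DeltaCompat i (fun z => δX (i z)) δX := Cyc26.deltaCompat_closed i δX
  have hVs : Cyc.IsSetup V (fun z => δX (i z)) := Cyc26Split.isSetup_of_lft i hX hiV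
  have hVk : Cyc.DeltaCompat (i ≫ pX) (fun z => δX (i z)) (fun _ => 0) := Bivar.deltaCompat_comp i pX _ _ _ hiV hδX
  haveI : Flat (i ≫ pX) := GrpdDim19.flat_to_field _
  obtain ⟨h0, hrel, -⟩ := UCat26.hasRelDim_of_irreducible (i ≫ pX) IntMult26.isSetup_field hVk
  simp only [hi, hx, sub_zero] at h0 hrel
  obtain ⟨n, rfl⟩ := Int.eq_ofNat_of_zero_le h0
  rw [Int.toNat_natCast] at hrel
  obtain ⟨c₀, hc₀⟩ := exists_isFlatPullClass hVs hS0 (i ≫ pX) n hrel hVk
  obtain ⟨c, hc⟩ := exists_isProperPushClass hVs hX hS0 i pX hiV (-(n : ℤ)) c₀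
  let T : ∀ (s : Bivar.Sq pX δX (fun _ => 0)) (m l : ℤ), l = m + (n : ℤ) →
      (ChowOps.CH s.Y' s.δY' m →+ ChowOps.CH s.X' s.δX' l) := fun s m l e =>
    (Bivar.chCast s.X' s.δX' (show m - -(n : ℤ) = l by rw [e]; ring)).toAddMonoidHom.comp (c.op s m)
  refine ⟨T, fun s m l e v hv => ?_, fun s t h _ h' _ w₁ w₂ w₃ m l e => ?_,
    fun s t h _ h' _ r hr hr' w₁ w₂ w₃ m l e e' => ?_,
    fun s t i' _ j _ w₁ w₂ w₃ L hL σ hσ τ hτ m l e e' => ?_⟩
  · haveI := s.lft
    have hPs := setupP hX s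
    have hYs := setupY hX s
    haveI := hYs.1
    haveI : IsLocallyNoetherian s.X' := hPs.1
    let Q : Scheme.{u} := pullback s.g' i
    let J : Q ⟶ s.X' := pullback.fst s.g' i
    have sqi : IsPullback J (pullback.snd s.g' i) s.g' i := IsPullback.of_hasPullback _ _
    haveI : IsClosedImmersion J := MorphismProperty.of_isPullback sqi.flip inferInstance
    haveI : LocallyOfFiniteType s.g' := MorphismProperty.of_isPullback (P := @LocallyOfFiniteType) s.isPullback inferInstance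
    have hJ : Cyc.DeltaCompat J (fun z => s.δX' (J z)) s.δX' := Cyc26.deltaCompat_closed J s.δX'
    have hQV : Cyc.DeltaCompat (pullback.snd s.g' i) (fun z => s.δX' (J z)) (fun z => δX (i z)) := by
      refine deltaCompat_cancel _ i hiV ?_
      rw [← pullback.condition]
      exact Bivar.deltaCompat_comp J s.g' _ _ _ hJ s.compatX
    let sQ : Bivar.Sq (i ≫ pX) (fun z => δX (i z)) (fun _ => 0) :=
      ⟨s.Y', Q, s.g, J ≫ s.f', pullback.snd s.g' i, sqi.paste_horiz s.isPullback, s.lft, s.δY',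
        fun z => s.δX' (J z), s.compatY, hQV⟩
    have F := flatFacts hVs hS0 hrel hVk sQ
    haveI : IsLocallyNoetherian Q := F.noethX
    haveI : Flat (J ≫ s.f') := F.flat
    have hshift : ∀ z : Q, (∀ w, (J ≫ s.f') w = (J ≫ s.f') z → w ⤳ z → w = z) →
        (fun z => s.δX' (J z)) z = s.δY' ((J ≫ s.f') z) + (n : ℤ) := fun z hz => by
      haveI := F.lftf
      exact Cyc26.shift_of_hasRelDim sQ.f' F.rel F.comp z hz
    obtain ⟨β, hβ⟩ := Cyc26.exists_cycle_pullFun (J ≫ s.f') F.dimX hshift v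
    have hβm : β ∈ Cyc.Zk Q (fun z => s.δX' (J z)) (m - -(n : ℤ)) := by
      rw [sub_neg_eq_add]; exact Cyc26.pullFun_mem_Zk (J ≫ s.f') hv hβ
    have hop := hc.2.2 s Q J (pullback.snd s.g' i) sqi (fun z => s.δX' (J z)) hQV m v hv β hβm
      (isPullMap_op hc₀ sQ m v hv β hβ hβm)
    refine ⟨AlgebraicCycle.map J (fun z => s.δX' (J z)) s.δX' β, Bivar.cycMap_mem_Zk J _ _ l (by
      rw [show l = m - -(n : ℤ) by rw [e]; ring]; exact hβm), ?_, ?_⟩
    · rw [ep, ext_symm]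
      refine map_strand s.isPullback s.compatY hδX (compat_fst hδX s) J (fun _ => rfl) ?_ ?_ v β (by rw [hx]; exact hβ)
      · rw [Cyc26.range_of_isPullback sqi, hr]
      · exact fun w hw => ker_strand sqi hi w hw
    · show Bivar.chCast s.X' s.δX' _ (c.op s m (ChowOps.cl v hv)) = _
      rw [hop, Bivar.chCast_cl]
  · subst e
    have := c.push s t h h' w₁ w₂ w₃ m
    exact this.castComp _
  · subst e
    have := c.pull s t h h' r hr hr' w₁ w₂ w₃ m
    exact this.castComp _ _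
  · subst e
    exact gysinOK_castComp (c.gysin s t i' j w₁ w₂ w₃ L hL σ hσ τ hτ m) _ _

end Groth.Agent.Kron26
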